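import Groth.Agent.CotTLib.Quotient
import Groth.Agent.TightClosure.Sop
import Groth.Agent.LocCohBasic.RegularPd

/-!
# Complete intersections in a local ring and the vanishing of `T²`
-/

noncomputable section

universe u

open TensorProduct IsLocalRing RingTheory.Sequence

namespace CotTLib

/-- Elements cutting the dimension by their number in a regular local ring form a regular sequence. -/
theorem isWeaklyRegular_of_dim {A : Type u} [CommRing A] [IsRegularLocalRing A] (rs : List A)
    (hrs : Ideal.ofList rs ≠ ⊤)
    (hdim : (rs.length : WithBot ℕ∞) + ringKrullDim (A ⧸ Ideal.ofList rs) = ringKrullDim A) :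
    IsWeaklyRegular A rs := by
  classical
  haveI : LocCoh.IsCohenMacaulayLocalRing A :=
    Groth.Agent.LocCohBasic.isCohenMacaulayLocalRing_of_isRegularLocalRing
  set I := Ideal.ofList rs
  haveI : Nontrivial (A ⧸ I) := Ideal.Quotient.nontrivial_iff.mpr hrs
  haveI : IsLocalRing (A ⧸ I) :=
    IsLocalRing.of_surjective' (Ideal.Quotient.mk I) Ideal.Quotient.mk_surjective
  obtain ⟨s, hs, hcard⟩ := (maximalIdeal (A ⧸ I)).exists_finset_card_eq_height_of_isNoetherianRing
  obtain ⟨lift, hlift⟩ := (Ideal.Quotient.mk_surjective (I := I)).hasRightInverse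
  have hd : ringKrullDim (A ⧸ I) = (s.card : WithBot ℕ∞) := by
    rw [← maximalIdeal_height_eq_ringKrullDim, ← hcard]; rfl
  have hsop : Groth.Agent.TightClosure.IsSOP (rs ++ s.toList.map lift) := by
    refine ⟨?_, ?_⟩
    · refine le_antisymm ((maximalIdeal.isMaximal A).isPrime.radical_le_iff.mpr
        (IsLocalRing.le_maximalIdeal ?_)) ?_
      · intro htop
        have h1 := congrArg (Ideal.map (Ideal.Quotient.mk I)) htop
        rw [Ideal.ofList_append, Ideal.map_sup, Ideal.map_quotient_self, bot_sup_eq, Ideal.map_ofList,
          List.map_map, Ideal.map_top] at h1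
        refine (maximalIdeal.isMaximal (A ⧸ I)).ne_top (top_le_iff.mp ?_)
        rw [← h1]
        refine Ideal.span_le.mpr fun z hz => ?_
        simp only [List.mem_map, Function.comp_apply, Finset.mem_toList, hlift _,
          exists_eq_right, Set.mem_ofPred_eq] at hz
        exact hs.1.2 (Ideal.subset_span hz)
      · intro x hx
        have hrad : maximalIdeal (A ⧸ I) ≤ (Ideal.span (s : Set (A ⧸ I))).radical := by
          rw [Ideal.radical_eq_sInf]
          refine le_sInf fun J hJ => ?_
          haveI := hJ.2
          exact hs.2 ⟨hJ.2, hJ.1⟩ (le_maximalIdeal hJ.2.ne_top)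
        have hx' : Ideal.Quotient.mk I x ∈ maximalIdeal (A ⧸ I) := by
          rw [mem_maximalIdeal, mem_nonunits_iff]
          intro hu
          haveI : IsLocalHom (Ideal.Quotient.mk I) := IsLocalHom.of_surjective _ Ideal.Quotient.mk_surjective
          exact hx (isUnit_of_map_unit _ _ hu)
        obtain ⟨n, hn⟩ := hrad hx'
        refine ⟨n, ?_⟩
        have h2 : Ideal.span (s : Set (A ⧸ I)) ≤ (Ideal.ofList (rs ++ s.toList.map lift)).map (Ideal.Quotient.mk I) := by
          refine Ideal.span_le.mpr fun z hz => ?_
          rw [← hlift z]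
          exact Ideal.mem_map_of_mem _ (Ideal.subset_span (List.mem_append_right _
            (List.mem_map_of_mem (Finset.mem_toList.mpr hz))))
        rw [← map_pow] at hn
        have h3 := h2 hn
        rw [← Ideal.mem_comap, Ideal.comap_map_of_surjective _ Ideal.Quotient.mk_surjective] at h3
        have h4 : Ideal.comap (Ideal.Quotient.mk I) ⊥ ≤ Ideal.ofList (rs ++ s.toList.map lift) := by
          rw [← RingHom.ker_eq_comap_bot, Ideal.mk_ker, Ideal.ofList_append]
          exact le_sup_left
        exact sup_le le_rfl h4 h3
    · rw [← hdim, hd, List.length_append, List.length_map, Finset.length_toList]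
      push_cast
      rfl
  exact ((isWeaklyRegular_append_iff A rs _).mp hsop.isWeaklyRegular).1

variable {A B : Type u} [CommRing A] [IsLocalRing A] [IsNoetherianRing A] [CommRing B] [Algebra A B]

/-- Minimal generators have no syzygy with a unit coefficient. -/
lemma syzygy_mem_maximalIdeal {n : ℕ} (fs : Fin n → A)
    (hmin : (Ideal.span (Set.range fs)).spanFinrank = n) (x : Fin n →₀ A)
    (hx : Finsupp.linearCombination A fs x = 0) (i : Fin n) : x i ∈ maximalIdeal A := by
  classical
  by_contra hu
  rw [mem_maximalIdeal, mem_nonunits_iff, not_not] at hu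
  have hsub : Ideal.span (Set.range fs) = Ideal.span (fs '' (Finset.univ.erase i : Finset (Fin n))) := by
    refine le_antisymm (Ideal.span_le.mpr ?_) (Ideal.span_mono (Set.image_subset_range _ _))
    rintro _ ⟨j, rfl⟩
    by_cases hj : j = i
    · subst hj
      have h0 : x j * fs j = -∑ k ∈ Finset.univ.erase j, x k * fs k := by
        rw [Finsupp.linearCombination_apply, Finsupp.sum_fintype _ _ (by simp)] at hx
        rw [eq_neg_iff_add_eq_zero, add_comm, Finset.sum_erase_add _ _ (Finset.mem_univ j)]
        exact hx
      rw [SetLike.mem_coe, ← Ideal.unit_mul_mem_iff_mem _ hu, h0]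
      refine neg_mem (Ideal.sum_mem _ fun k hk => Ideal.mul_mem_left _ _ (Ideal.subset_span ⟨k, ?_, rfl⟩))
      exact Finset.mem_coe.mpr hk
    · exact Ideal.subset_span ⟨j, by simp [hj], rfl⟩
  have h1 : (Ideal.span (Set.range fs)).spanFinrank ≤ n - 1 := by
    rw [hsub]
    refine (Submodule.spanFinrank_span_le_ncard_of_finite ((Finset.univ.erase i).finite_toSet.image fs)).trans ?_
    refine (Set.ncard_image_le (Finset.univ.erase i).finite_toSet).trans ?_
    rw [Set.ncard_coe_finset, Finset.card_erase_of_mem (Finset.mem_univ i), Finset.card_univ, Fintype.card_fin]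
  have hn : 0 < n := i.pos
  omega

/-- If `T²(B/A, -)` vanishes, minimal generators of the ideal have only trivial syzygies. -/
theorem syzygies_trivial_of_T2 (hs : Function.Surjective (algebraMap A B)) [Nontrivial B] {n : ℕ} (fs : Fin n → A)
    (hI : RingHom.ker (algebraMap A B) = Ideal.span (Set.range fs))
    (hcoef : ∀ x, Finsupp.linearCombination A fs x = 0 → ∀ i, x i ∈ maximalIdeal A)
    (hT : Subsingleton (CotT.T2 (quotPresentation hs fs hI) (CotT.L2 (quotPresentation hs fs hI)))) :
    ∀ x, Finsupp.linearCombination A fs x = 0 → x ∈ triv fs := by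
  set P := quotPresentation hs fs hI
  obtain ⟨u, hu⟩ : ∃ u, CotT.d2Star P (CotT.L2 P) u = LinearMap.id :=
    LinearMap.mem_range.mp ((Submodule.Quotient.mk_eq_zero _).mp
      (hT.elim (Submodule.Quotient.mk LinearMap.id) 0))
  haveI : IsLocalRing B := IsLocalRing.of_surjective' (algebraMap A B) hs
  haveI : IsLocalHom (algebraMap A B) := IsLocalHom.of_surjective _ hs
  haveI : IsNoetherianRing P.toExtension.Ring :=
    inferInstanceAs (IsNoetherianRing (MvPolynomial PEmpty.{1} A))
  let Cf : A →+* P.toExtension.Ring := (MvPolynomial.C : A →+* MvPolynomial PEmpty.{1} A)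
  have hjC : ∀ x : Fin n →₀ A, CotT.jmap P (x.mapRange Cf (map_zero _) : CotT.relMod P) =
      MvPolynomial.C (Finsupp.linearCombination A fs x) := by
    intro x
    induction x using Finsupp.induction_linear with
    | zero =>
      erw [Finsupp.mapRange_zero]
      rw [map_zero (CotT.jmap P), map_zero (Finsupp.linearCombination A fs)]
      exact (map_zero MvPolynomial.C).symm
    | add a b ha hb =>
      refine (congrArg (CotT.jmap P) (Finsupp.mapRange_add (map_add Cf) a b)).trans ?_
      refine (map_add (CotT.jmap P) _ _).trans ?_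
      rw [map_add (Finsupp.linearCombination A fs), map_add MvPolynomial.C]
      exact congrArg₂ (· + ·) ha hb
    | single s c =>
      rw [Finsupp.mapRange_single, Finsupp.linearCombination_single, smul_eq_mul, map_mul]
      exact CotT.jmap_single _ s _
  have hC : ∀ p : P.toExtension.Ring, ∃ a : A, MvPolynomial.C a = p := fun p =>
    MvPolynomial.C_surjective PEmpty.{1} p
  -- every class lies in `𝔪 • L₂`
  have hz : ∀ z : CotT.L2 P, z ∈ maximalIdeal B • (⊤ : Submodule B (CotT.L2 P)) := by
    intro z
    obtain ⟨q, rfl⟩ := mk2_surjective P z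
    have h1 : u (mk1 P (q : CotT.relMod P)) = mk2 P q := by
      rw [← d2_mk2]
      exact LinearMap.congr_fun hu _
    rw [← h1, ← Finsupp.sum_single (q : CotT.relMod P), Finsupp.sum, map_sum, map_sum]
    refine Submodule.sum_mem _ fun s _ => ?_
    rw [mk1_single, map_smul]
    refine Submodule.smul_mem_smul ?_ Submodule.mem_top
    choose g hg using fun t : Fin n => hC ((q : CotT.relMod P) t)
    have hgC : (Finsupp.equivFunOnFinite.symm g).mapRange Cf (map_zero _) = (q : CotT.relMod P) := by
      ext t : 1
      exact hg t
    have h0 : Finsupp.linearCombination A fs (Finsupp.equivFunOnFinite.symm g) = 0 := by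
      apply MvPolynomial.C_injective PEmpty.{1}
      rw [map_zero]
      refine (hjC _).symm.trans ?_
      rw [hgC]
      exact q.2
    have h2 := hcoef _ h0 s
    rw [show ((q : CotT.relMod P) s) = MvPolynomial.C (g s) from (hg s).symm,
      show algebraMap P.toExtension.Ring B (MvPolynomial.C (g s)) = algebraMap A B (g s) from
        (IsScalarTower.algebraMap_apply A P.toExtension.Ring B _).symm]
    exact map_nonunit (algebraMap A B) _ h2
  haveI : Module.Finite B (CotT.L2 P) := inferInstance
  have htop : (⊤ : Submodule B (CotT.L2 P)) = ⊥ :=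
    Submodule.eq_bot_of_le_smul_of_le_jacobson_bot _ _ Module.Finite.fg_top (fun z _ => hz z)
      (IsLocalRing.maximalIdeal_le_jacobson _)
  intro x hx
  have hq : (x.mapRange Cf (map_zero _) : CotT.relMod P) ∈ CotT.relKer P := by
    change CotT.jmap P _ = 0
    refine (hjC x).trans ?_
    rw [hx]
    exact map_zero MvPolynomial.C
  have h1 : mk2 P ⟨_, hq⟩ = 0 := (Submodule.mem_bot B).mp (htop ▸ Submodule.mem_top)
  have h2 := mem_trivRel_of_mk2_eq_zero P h1
  -- back to `A`
  let e : P.toExtension.Ring →+* A :=
    ((MvPolynomial.isEmptyRingEquiv A PEmpty.{1}).toRingHom : MvPolynomial PEmpty.{1} A →+* A)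
  have heC : ∀ a, e (Cf a) = a := fun a => (MvPolynomial.coeff_C _ _).trans (if_pos rfl)
  have hback : ∀ y ∈ CotT.trivRel P, (y.mapRange e (map_zero _) : Fin n →₀ A) ∈ triv fs := by
    intro y hy
    induction hy using Submodule.span_induction with
    | mem y hy =>
      obtain ⟨a, b, rfl⟩ := hy
      have hj : ∀ a : CotT.relMod P, e (CotT.jmap P a) = Finsupp.linearCombination A fs (a.mapRange e (map_zero _)) := by
        intro a
        induction a using Finsupp.induction_linear with
        | zero => simp
        | add a b ha hb =>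
          rw [map_add, map_add, ha, hb, Finsupp.mapRange_add (map_add e), map_add]
        | single s c =>
          rw [CotT.jmap_single, Finsupp.mapRange_single, Finsupp.linearCombination_single, smul_eq_mul, map_mul]
          exact congrArg (e c * ·) (heC (fs s))
      refine Submodule.subset_span ⟨a.mapRange e (map_zero _), b.mapRange e (map_zero _), ?_⟩
      ext s
      simp [hj]
    | zero => rw [Finsupp.mapRange_zero]; exact zero_mem _
    | add a b _ _ ha hb => rw [Finsupp.mapRange_add (map_add e)]; exact add_mem ha hb
    | smul c a _ ha =>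
      convert Submodule.smul_mem (triv fs) (e c) ha using 1
      ext s
      simp
  convert hback _ h2
  ext s
  simp [heC]

end CotTLib

end
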