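import Mathlib.RingTheory.Regular.RegularSequence
import Mathlib.RingTheory.Nakayama
import Mathlib.Tactic.LinearCombination
import Mathlib.Tactic.Module
import Mathlib.LinearAlgebra.Finsupp.LinearCombination
import Mathlib.RingTheory.LocalRing.MaximalIdeal.Basic

/-!
# Regular sequences and trivial syzygies

For a weakly regular sequence every syzygy is trivial; conversely, in a Noetherian local ring, a sequence in
the maximal ideal all of whose syzygies are trivial is weakly regular.
-/

noncomputable section

namespace CotTLib

variable {R : Type*} [CommRing R] {σ : Type*}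

/-- The trivial syzygies of a family. -/
def triv (f : σ → R) : Submodule R (σ →₀ R) :=
  Submodule.span R {y | ∃ a b : σ →₀ R,
    y = Finsupp.linearCombination R f a • b - Finsupp.linearCombination R f b • a}

lemma linearCombination_of_mem_triv {f : σ → R} {y : σ →₀ R} (hy : y ∈ triv f) :
    Finsupp.linearCombination R f y = 0 := by
  induction hy using Submodule.span_induction with
  | mem x hx =>
    obtain ⟨a, b, rfl⟩ := hx
    simp only [map_sub, map_smul, smul_eq_mul, mul_comm, sub_self]
  | zero => exact map_zero _
  | add a b _ _ ha hb => rw [map_add, ha, hb, add_zero]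
  | smul c a _ ha => rw [map_smul, ha, smul_zero]

/-- The list of the first terms of a family indexed by `Fin (n + 1)`. -/
lemma ofList_castSucc {n : ℕ} (g : Fin n → R) :
    (Ideal.ofList (List.ofFn g) • ⊤ : Submodule R R) = LinearMap.range (Finsupp.linearCombination R g) := by
  rw [smul_eq_mul, Ideal.mul_top, Ideal.ofList, Finsupp.range_linearCombination]
  congr 1
  ext x
  simp [List.mem_ofFn]

lemma isWeaklyRegular_ofFn_succ {n : ℕ} (f : Fin (n + 1) → R) :
    RingTheory.Sequence.IsWeaklyRegular R (List.ofFn f) ↔
      RingTheory.Sequence.IsWeaklyRegular R (List.ofFn (f ∘ Fin.castSucc)) ∧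
        ∀ r : R, f (Fin.last n) * r ∈ LinearMap.range (Finsupp.linearCombination R (f ∘ Fin.castSucc)) →
          r ∈ LinearMap.range (Finsupp.linearCombination R (f ∘ Fin.castSucc)) := by
  have hlist : List.ofFn f = List.ofFn (f ∘ Fin.castSucc) ++ [f (Fin.last n)] := by
    rw [List.ofFn_succ', List.concat_eq_append]; rfl
  rw [hlist, RingTheory.Sequence.isWeaklyRegular_append_iff,
    RingTheory.Sequence.isWeaklyRegular_singleton_iff, isSMulRegular_iff_right_eq_zero_of_smul]
  refine and_congr Iff.rfl ⟨fun h r hr => ?_, fun h x hx => ?_⟩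
  · rw [← ofList_castSucc] at hr ⊢
    refine (Submodule.Quotient.mk_eq_zero _).mp (h _ ?_)
    rw [← Submodule.Quotient.mk_smul]
    exact (Submodule.Quotient.mk_eq_zero _).mpr hr
  · obtain ⟨r, rfl⟩ := Submodule.Quotient.mk_surjective _ x
    rw [← Submodule.Quotient.mk_smul, Submodule.Quotient.mk_eq_zero, ofList_castSucc, smul_eq_mul] at hx
    rw [Submodule.Quotient.mk_eq_zero, ofList_castSucc]
    exact h r hx

lemma exists_decomp {n : ℕ} (x : Fin (n + 1) →₀ R) :
    ∃ (y : Fin n →₀ R) (c : R), x = y.mapDomain Fin.castSucc + Finsupp.single (Fin.last n) c := by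
  refine ⟨x.comapDomain Fin.castSucc (Fin.castSucc_injective n).injOn, x (Fin.last n), ?_⟩
  ext i
  induction i using Fin.lastCases with
  | last =>
    rw [Finsupp.add_apply, Finsupp.mapDomain_of_notMem_range _ _ (by simp [Fin.castSucc_ne_last]),
      Finsupp.single_eq_same, zero_add]
  | cast i =>
    rw [Finsupp.add_apply, Finsupp.mapDomain_apply (Fin.castSucc_injective n), Finsupp.comapDomain_apply,
      Finsupp.single_eq_of_ne (Fin.castSucc_ne_last i), add_zero]

lemma triv_mapDomain {n : ℕ} (f : Fin (n + 1) → R) {y : Fin n →₀ R}
    (hy : y ∈ triv (f ∘ Fin.castSucc)) : y.mapDomain Fin.castSucc ∈ triv f := by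
  induction hy using Submodule.span_induction with
  | mem x hx =>
    obtain ⟨a, b, rfl⟩ := hx
    refine Submodule.subset_span ⟨a.mapDomain Fin.castSucc, b.mapDomain Fin.castSucc, ?_⟩
    change Finsupp.lmapDomain R R Fin.castSucc _ = _
    rw [map_sub, map_smul, map_smul, Finsupp.lmapDomain_apply, Finsupp.lmapDomain_apply,
      Finsupp.linearCombination_mapDomain, Finsupp.linearCombination_mapDomain]
  | zero => rw [Finsupp.mapDomain_zero]; exact zero_mem _
  | add a b _ _ ha hb => rw [Finsupp.mapDomain_add]; exact add_mem ha hb
  | smul c a _ ha => rw [Finsupp.mapDomain_smul]; exact Submodule.smul_mem _ _ ha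

/-- Every syzygy of a weakly regular sequence is trivial. -/
theorem mem_triv_of_isWeaklyRegular : ∀ {n : ℕ} (f : Fin n → R),
    RingTheory.Sequence.IsWeaklyRegular R (List.ofFn f) →
      ∀ x, Finsupp.linearCombination R f x = 0 → x ∈ triv f := by
  intro n
  induction n with
  | zero => intro f _ x _; rw [Subsingleton.elim x 0]; exact zero_mem _
  | succ n ih =>
    intro f hf x hx
    obtain ⟨hg, hlast⟩ := (isWeaklyRegular_ofFn_succ f).mp hf
    obtain ⟨y, c, rfl⟩ := exists_decomp x
    rw [map_add, Finsupp.linearCombination_mapDomain, Finsupp.linearCombination_single, smul_eq_mul] at hx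
    obtain ⟨z, hz⟩ := hlast c ⟨-y, by rw [map_neg]; linear_combination -hx⟩
    -- subtract a trivial syzygy to kill the last coefficient
    have hy0 : Finsupp.linearCombination R (f ∘ Fin.castSucc) (y + f (Fin.last n) • z) = 0 := by
      rw [map_add, map_smul, hz, smul_eq_mul]; linear_combination hx
    have h1 := triv_mapDomain f (ih _ hg _ hy0)
    have h2 : Finsupp.linearCombination R f (z.mapDomain Fin.castSucc) •
          Finsupp.single (Fin.last n) (1 : R)
        - Finsupp.linearCombination R f (Finsupp.single (Fin.last n) (1 : R)) •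
          z.mapDomain Fin.castSucc ∈ triv f := Submodule.subset_span ⟨_, _, rfl⟩
    have key := add_mem h1 h2
    rw [Finsupp.linearCombination_mapDomain, hz, Finsupp.linearCombination_single, one_smul,
      Finsupp.smul_single, smul_eq_mul, mul_one, Finsupp.mapDomain_add, Finsupp.mapDomain_smul] at key
    convert key using 1
    abel

/-- The projection forgetting the last coordinate. -/
def initPart (n : ℕ) : (Fin (n + 1) →₀ R) →ₗ[R] (Fin n →₀ R) :=
  Finsupp.lcomapDomain Fin.castSucc (Fin.castSucc_injective n)

/-- In a Noetherian local ring, trivial syzygies imply weak regularity. -/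
theorem isWeaklyRegular_of_forall_mem_triv [IsLocalRing R] [IsNoetherianRing R] : ∀ {n : ℕ} (f : Fin n → R),
    (∀ i, f i ∈ IsLocalRing.maximalIdeal R) →
      (∀ x, Finsupp.linearCombination R f x = 0 → x ∈ triv f) →
      RingTheory.Sequence.IsWeaklyRegular R (List.ofFn f) := by
  intro n
  induction n with
  | zero => intro f _ _; simp
  | succ n ih =>
    intro f hf htriv
    set g : Fin n → R := f ∘ Fin.castSucc with hg
    set t : R := f (Fin.last n) with ht
    have hinit : ∀ (y : Fin n →₀ R) (c : R),
        initPart n (y.mapDomain Fin.castSucc + Finsupp.single (Fin.last n) c) = y := by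
      intro y c
      ext i
      change (y.mapDomain Fin.castSucc + Finsupp.single (Fin.last n) c : Fin (n + 1) →₀ R) i.castSucc = y i
      rw [Finsupp.add_apply, Finsupp.mapDomain_apply (Fin.castSucc_injective n),
        Finsupp.single_eq_of_ne (Fin.castSucc_ne_last i), add_zero]
    have hlc : ∀ (y : Fin n →₀ R) (c : R), Finsupp.linearCombination R f
        (y.mapDomain Fin.castSucc + Finsupp.single (Fin.last n) c)
          = Finsupp.linearCombination R g y + c * t := fun y c => by
      rw [map_add, Finsupp.linearCombination_mapDomain, Finsupp.linearCombination_single, smul_eq_mul]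
    -- the projection of a trivial syzygy
    have hproj : ∀ x ∈ triv f, ∃ w : Fin n →₀ R, initPart n x - t • w ∈ triv g ∧
        x (Fin.last n) = - Finsupp.linearCombination R g w := by
      intro x hx
      induction hx using Submodule.span_induction with
      | mem x hx =>
        obtain ⟨a, b, rfl⟩ := hx
        obtain ⟨a', ca, rfl⟩ := exists_decomp a
        obtain ⟨b', cb, rfl⟩ := exists_decomp b
        refine ⟨ca • b' - cb • a', ?_, ?_⟩
        · rw [map_sub, map_smul, map_smul, hinit, hinit, hlc, hlc]
          have h1 : Finsupp.linearCombination R g a' • b' - Finsupp.linearCombination R g b' • a' ∈ triv g :=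
            Submodule.subset_span ⟨a', b', rfl⟩
          convert h1 using 1
          module
        · simp only [hlc, Finsupp.sub_apply, Finsupp.smul_apply, Finsupp.add_apply,
            Finsupp.mapDomain_of_notMem_range _ _ (show Fin.last n ∉ Set.range Fin.castSucc by
              simp [Fin.castSucc_ne_last]), Finsupp.single_eq_same, smul_eq_mul, map_sub, map_smul]
          ring
      | zero => exact ⟨0, by simp, by simp⟩
      | add a b _ _ ha hb =>
        obtain ⟨w, hw, hw'⟩ := ha
        obtain ⟨w', hv, hv'⟩ := hb
        refine ⟨w + w', ?_, ?_⟩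
        · convert add_mem hw hv using 1
          rw [map_add, smul_add]; abel
        · rw [Finsupp.add_apply, hw', hv', map_add]; ring
      | smul c a _ ha =>
        obtain ⟨w, hw, hw'⟩ := ha
        refine ⟨c • w, ?_, ?_⟩
        · convert Submodule.smul_mem _ c hw using 1
          rw [map_smul]; module
        · rw [Finsupp.smul_apply, hw', map_smul, smul_eq_mul, smul_eq_mul]; ring
    let S : Submodule R (Fin n →₀ R) := LinearMap.ker (Finsupp.linearCombination R g)
    have hle : S ≤ triv g ⊔ Ideal.span {t} • S := by
      intro y hy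
      have hy' : Finsupp.linearCombination R g y = 0 := hy
      have h0 := htriv (y.mapDomain Fin.castSucc + Finsupp.single (Fin.last n) 0) (by
        rw [hlc, hy', zero_mul, add_zero])
      obtain ⟨w, hw, hw'⟩ := hproj _ h0
      rw [hinit] at hw
      have hwS : w ∈ S := by
        rw [Finsupp.add_apply, Finsupp.mapDomain_of_notMem_range _ _ (by simp [Fin.castSucc_ne_last]),
          Finsupp.single_eq_same, zero_add] at hw'
        change Finsupp.linearCombination R g w = 0
        linear_combination hw'
      rw [show y = (y - t • w) + t • w by abel]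
      exact add_mem (Submodule.mem_sup_left hw)
        (Submodule.mem_sup_right (Submodule.smul_mem_smul (Ideal.mem_span_singleton_self t) hwS))
    have hS : S ≤ triv g := Submodule.le_of_le_smul_of_le_jacobson_bot (IsNoetherian.noetherian S)
      (((Ideal.span_singleton_le_iff_mem _).mpr (hf _)).trans
        (IsLocalRing.maximalIdeal_le_jacobson _)) hle
    refine (isWeaklyRegular_ofFn_succ f).mpr ⟨ih g (fun i => hf _) fun x hx => hS hx, fun r hr => ?_⟩
    obtain ⟨y, hy⟩ := hr
    have h0 := htriv ((-y).mapDomain Fin.castSucc + Finsupp.single (Fin.last n) r) (by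
      rw [hlc, map_neg, hy]; ring)
    obtain ⟨w, -, hw'⟩ := hproj _ h0
    rw [Finsupp.add_apply, Finsupp.mapDomain_of_notMem_range _ _ (by simp [Fin.castSucc_ne_last]),
      Finsupp.single_eq_same, zero_add] at hw'
    exact ⟨-w, by rw [map_neg, hw']⟩

end CotTLib

end
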