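import Groth.Agent.CotTLib.Quotient

/-!
# `T²` does not see the polynomial variables
-/

noncomputable section

open TensorProduct

namespace CotTLib

variable {A R B ι σ : Type*} [CommRing A] [CommRing B] [Algebra A B]

section Bijective

variable {A' ι' σ' : Type*} [CommRing A'] [Algebra A' B] [Algebra A A'] [IsScalarTower A A' B]
variable {P : Algebra.Presentation A B ι σ} {P' : Algebra.Presentation A' B ι' σ'}

/-- A morphism of presentations which is bijective on `L₁` and `L₂` induces a bijection on `T²`. -/
theorem T2pull_bijective (h : CotT.PresHom P P') (h1 : Function.Bijective h.L1map)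
    (h2 : Function.Bijective h.L2map) (M : Type*) [AddCommGroup M] [Module B M] :
    Function.Bijective (h.T2pull M) := by
  let e1 := Equiv.ofBijective _ h1
  let e2 := Equiv.ofBijective _ h2
  constructor
  · rw [injective_iff_map_eq_zero]
    intro x hx
    obtain ⟨φ, rfl⟩ := Submodule.Quotient.mk_surjective _ x
    obtain ⟨u, hu⟩ := LinearMap.mem_range.mp ((Submodule.Quotient.mk_eq_zero _).mp hx)
    have hadd : ∀ a b, e1.symm (a + b) = e1.symm a + e1.symm b := fun a b =>
      e1.injective (by
        rw [Equiv.apply_symm_apply]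
        exact ((map_add h.L1map _ _).trans (congrArg₂ (· + ·) (e1.apply_symm_apply a) (e1.apply_symm_apply b))).symm)
    have hsmul : ∀ (c : B) a, e1.symm (c • a) = c • e1.symm a := fun c a =>
      e1.injective (by
        rw [Equiv.apply_symm_apply]
        exact ((h.L1map.map_smulₛₗ c _).trans
          (congrArg₂ (· • ·) (Algebra.algebraMap_self_apply c) (e1.apply_symm_apply a))).symm)
    refine (Submodule.Quotient.mk_eq_zero _).mpr (LinearMap.mem_range.mpr
      ⟨{ toFun := fun z => u (e1.symm z), map_add' := fun a b => by rw [hadd, map_add],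
         map_smul' := fun c a => by rw [hsmul, map_smul]; rfl }, LinearMap.ext fun w => ?_⟩)
    obtain ⟨z, rfl⟩ := h2.2 w
    change u (e1.symm (CotT.d2 P' (h.L2map z))) = φ (h.L2map z)
    rw [show e1.symm (CotT.d2 P' (h.L2map z)) = CotT.d2 P z from
      e1.injective ((e1.apply_symm_apply _).trans (h.d2_L2map z))]
    exact LinearMap.congr_fun hu z
  · intro y
    obtain ⟨φ, rfl⟩ := Submodule.Quotient.mk_surjective _ y
    have hadd : ∀ a b, e2.symm (a + b) = e2.symm a + e2.symm b := fun a b =>
      e2.injective (by
        rw [Equiv.apply_symm_apply]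
        exact ((map_add h.L2map _ _).trans (congrArg₂ (· + ·) (e2.apply_symm_apply a) (e2.apply_symm_apply b))).symm)
    have hsmul : ∀ (c : B) a, e2.symm (c • a) = c • e2.symm a := fun c a =>
      e2.injective (by
        rw [Equiv.apply_symm_apply]
        exact ((h.L2map.map_smulₛₗ c _).trans
          (congrArg₂ (· • ·) (Algebra.algebraMap_self_apply c) (e2.apply_symm_apply a))).symm)
    refine ⟨Submodule.Quotient.mk
      { toFun := fun z => φ (e2.symm z), map_add' := fun a b => by rw [hadd, map_add],
        map_smul' := fun c a => by rw [hsmul, map_smul]; rfl }, ?_⟩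
    rw [T2pull_mk]
    congr 1
    exact LinearMap.ext fun z => congrArg φ (e2.symm_apply_apply z)

/-- If the map on the polynomial rings is bijective and relations go to a basis, `L₁`, `L₂` map bijectively. -/
theorem bijective_maps_of_ringHom (h : CotT.PresHom P P') (hr : Function.Bijective h.ringHom)
    (e : σ ≃ σ') (hv : ∀ s, h.relVal s = Finsupp.single (e s) 1) :
    Function.Bijective h.L1map ∧ Function.Bijective h.L2map := by
  have hF : ∀ f t, h.relModMap f t = h.ringHom (f (e.symm t)) := by
    intro f t
    induction f using Finsupp.induction_linear with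
    | zero => simp
    | add a b ha hb => rw [map_add, Finsupp.add_apply, ha, hb, Finsupp.add_apply, map_add]
    | single s r =>
      rw [CotT.PresHom.relModMap_single, hv, Finsupp.smul_single, smul_eq_mul, mul_one]
      by_cases hst : s = e.symm t
      · subst hst; simp
      · have : e s ≠ t := fun he => hst (by rw [← he, e.symm_apply_apply])
        simp [Ne.symm hst, this.symm]
  have hFinj : Function.Injective h.relModMap := by
    intro f g hfg
    ext s
    have := DFunLike.congr_fun hfg (e s)
    rw [hF, hF, e.symm_apply_apply] at this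
    exact hr.1 this
  have hFsurj : Function.Surjective h.relModMap := by
    intro g
    induction g using Finsupp.induction_linear with
    | zero => exact ⟨0, map_zero _⟩
    | add a b ha hb =>
      obtain ⟨x, rfl⟩ := ha
      obtain ⟨y, rfl⟩ := hb
      exact ⟨x + y, map_add _ _ _⟩
    | single t r =>
      obtain ⟨r, rfl⟩ := hr.2 r
      refine ⟨Finsupp.single (e.symm t) r, ?_⟩
      rw [CotT.PresHom.relModMap_single, hv, e.apply_symm_apply, Finsupp.smul_single, smul_eq_mul, mul_one]
  have hQsurj : Function.Surjective h.relKerMap := by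
    intro q
    obtain ⟨f, hf⟩ := hFsurj q
    refine ⟨⟨f, ?_⟩, Subtype.ext hf⟩
    change CotT.jmap P f = 0
    apply hr.1
    rw [← h.jmap_relModMap, hf, map_zero]
    exact q.2
  refine ⟨⟨?_, ?_⟩, ?_, ?_⟩
  · rw [injective_iff_map_eq_zero]
    intro z hz
    obtain ⟨f, rfl⟩ := mk1_surjective P z
    rw [L1map_mk1] at hz
    refine (CotT.L1basis P).repr.injective (Finsupp.ext fun s => ?_)
    have key : ∀ g : CotT.relMod P, (CotT.L1basis P).repr (mk1 P g) s =
        algebraMap P.toExtension.Ring B (g s) := by
      intro g
      induction g using Finsupp.induction_linear with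
      | zero => simp
      | add a b ha hb => rw [map_add, map_add, Finsupp.add_apply, ha, hb, Finsupp.add_apply, map_add]
      | single t r =>
        rw [mk1_single, map_smul, Module.Basis.repr_self, Finsupp.smul_apply]
        by_cases hts : t = s
        · subst hts; simp
        · simp [Finsupp.single_eq_of_ne (Ne.symm hts)]
    have key' : ∀ g : CotT.relMod P', (CotT.L1basis P').repr (mk1 P' g) (e s) =
        algebraMap P'.toExtension.Ring B (g (e s)) := by
      intro g
      induction g using Finsupp.induction_linear with
      | zero => simp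
      | add a b ha hb => rw [map_add, map_add, Finsupp.add_apply, ha, hb, Finsupp.add_apply, map_add]
      | single t r =>
        rw [mk1_single, map_smul, Module.Basis.repr_self, Finsupp.smul_apply]
        by_cases hts : t = e s
        · subst hts; simp
        · simp [Finsupp.single_eq_of_ne (Ne.symm hts)]
    have h2 := key' (h.relModMap f)
    rw [hz, map_zero, Finsupp.zero_apply, hF, e.symm_apply_apply, h.algebraMap_ringHom,
      Algebra.algebraMap_self_apply] at h2
    rw [key, ← h2, map_zero, Finsupp.zero_apply]
  · intro z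
    obtain ⟨g, rfl⟩ := mk1_surjective P' z
    obtain ⟨f, rfl⟩ := hFsurj g
    exact ⟨mk1 P f, L1map_mk1 h f⟩
  · rw [injective_iff_map_eq_zero]
    intro z hz
    obtain ⟨q, rfl⟩ := mk2_surjective P z
    rw [L2map_mk2] at hz
    have h1 := mem_trivRel_of_mk2_eq_zero P' hz
    refine mk2_eq_zero_of_mem_trivRel P ?_
    have key : ∀ y ∈ CotT.trivRel P', ∃ x ∈ CotT.trivRel P, h.relModMap x = y := by
      intro y hy
      induction hy using Submodule.span_induction with
      | mem y hy =>
        obtain ⟨a, b, rfl⟩ := hy
        obtain ⟨a, rfl⟩ := hFsurj a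
        obtain ⟨b, rfl⟩ := hFsurj b
        refine ⟨CotT.jmap P a • b - CotT.jmap P b • a, Submodule.subset_span ⟨a, b, rfl⟩, ?_⟩
        rw [map_sub, LinearMap.map_smulₛₗ, LinearMap.map_smulₛₗ, h.jmap_relModMap, h.jmap_relModMap]
      | zero => exact ⟨0, zero_mem _, map_zero _⟩
      | add a b _ _ ha hb =>
        obtain ⟨x, hx, rfl⟩ := ha
        obtain ⟨y, hy, rfl⟩ := hb
        exact ⟨x + y, add_mem hx hy, map_add _ _ _⟩
      | smul c a _ ha =>
        obtain ⟨x, hx, rfl⟩ := ha
        obtain ⟨c, rfl⟩ := hr.2 c
        exact ⟨c • x, Submodule.smul_mem _ _ hx, LinearMap.map_smulₛₗ _ _ _⟩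
    obtain ⟨x, hx, hxq⟩ := key _ h1
    rwa [← show x = (q : CotT.relMod P) from hFinj hxq]
  · intro z
    obtain ⟨q, rfl⟩ := mk2_surjective P' z
    obtain ⟨q, rfl⟩ := hQsurj q
    exact ⟨mk2 P q, L2map_mk2 h q⟩

end Bijective

lemma algebraMap_X_eq (P : Algebra.Presentation A B ι σ) (i : ι) :
    algebraMap P.toExtension.Ring B (MvPolynomial.X i) = P.val i :=
  (P.algebraMap_apply (MvPolynomial.X i)).trans (MvPolynomial.aeval_X _ _)

/-- `T²` of a presentation is `T²` of any presentation of `B` over its polynomial ring. -/
theorem nonempty_T2_equiv_base (P : Algebra.Presentation A B ι σ) {ι' σ' : Type*}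
    (P' : Algebra.Presentation P.toExtension.Ring B ι' σ') (M : Type*) [AddCommGroup M] [Module B M] :
    Nonempty (CotT.T2 P' M ≃ₗ[B] CotT.T2 P M) := by
  let P'' : Algebra.Presentation P.toExtension.Ring B PEmpty.{1} σ :=
    quotPresentation (surjective_algebraMap P) (CotT.rel P) P.span_range_relation_eq_ker.symm
  let Cr : P.toExtension.Ring →+* P''.toExtension.Ring :=
    (MvPolynomial.C : P.toExtension.Ring →+* MvPolynomial PEmpty.{1} P.toExtension.Ring)
  let g : Algebra.Generators.Hom P.toGenerators P''.toGenerators :=
    { val := fun i => Cr (MvPolynomial.X i)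
      aeval_val := fun i => by
        rw [Algebra.algebraMap_self_apply]
        refine (MvPolynomial.aeval_C _ _).trans ?_
        exact (algebraMap_X_eq P i) }
  have hg : ∀ r : P.toExtension.Ring, g.toAlgHom r = Cr r := by
    intro r
    induction r using MvPolynomial.induction_on with
    | C a =>
      refine (Algebra.Generators.Hom.toAlgHom_C g a).trans ?_
      rfl
    | add p q hp hq => exact (map_add g.toAlgHom p q).trans ((congrArg₂ (· + ·) hp hq).trans (map_add Cr p q).symm)
    | mul_X p i hp =>
      exact (map_mul g.toAlgHom p _).trans ((congrArg₂ (· * ·) hp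
        (Algebra.Generators.Hom.toAlgHom_X g i)).trans (map_mul Cr p _).symm)
  let h : CotT.PresHom P P'' :=
    { hom := g
      relVal := fun s => Finsupp.single s 1
      jmap_relVal := fun s => by
        rw [CotT.jmap_single, one_mul]
        exact (hg (CotT.rel P s)).symm }
  have hr : Function.Bijective h.ringHom := by
    refine ⟨fun a b hab => MvPolynomial.C_injective PEmpty.{1} P.toExtension.Ring ?_, fun y => ?_⟩
    · exact ((hg a).symm.trans hab).trans (hg b)
    · obtain ⟨r, hr⟩ := MvPolynomial.C_surjective PEmpty.{1} (R := P.toExtension.Ring) y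
      exact ⟨r, (hg r).trans hr⟩
  obtain ⟨h1, h2⟩ := bijective_maps_of_ringHom h hr (Equiv.refl σ) (fun s => rfl)
  exact ⟨(T2equiv P' P'' (M := M)).trans (LinearEquiv.ofBijective (h.T2pull M) (T2pull_bijective h h1 h2 M))⟩

end CotTLib

end
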