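import Groth.Prelude.Def_CotT2

/-!
# Elementary lemmas on the cotangent complex of a presentation

`mk1 : F → L₁`, `mk2 : Q → L₂`, `dR : R → L₀` are the canonical semilinear maps; the first two are surjective,
`dR` of the variables is a basis.
-/

noncomputable section

universe u v w t m

open TensorProduct

namespace CotTLib

variable {A : Type u} {B : Type v} {ι : Type w} {σ : Type t}
variable [CommRing A] [CommRing B] [Algebra A B]
variable (P : Algebra.Presentation A B ι σ)

lemma surjective_algebraMap : Function.Surjective (algebraMap P.toExtension.Ring B) :=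
  P.toGenerators.algebraMap_surjective

lemma exists_eq_one_tmul {N : Type*} [AddCommMonoid N] [Module P.toExtension.Ring N]
    (z : B ⊗[P.toExtension.Ring] N) : ∃ n : N, z = (1 : B) ⊗ₜ n := by
  induction z using TensorProduct.induction_on with
  | zero => exact ⟨0, by rw [tmul_zero]⟩
  | tmul b n =>
    obtain ⟨r, rfl⟩ := surjective_algebraMap P b
    exact ⟨r • n, by rw [← smul_tmul, Algebra.smul_def, mul_one]⟩
  | add x y hx hy =>
    obtain ⟨a, rfl⟩ := hx
    obtain ⟨c, rfl⟩ := hy
    exact ⟨a + c, by rw [tmul_add]⟩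

/-- `F → L₁`, `f ↦ 1 ⊗ f`. -/
def mk1 : CotT.relMod P →ₛₗ[algebraMap P.toExtension.Ring B] CotT.L1 P where
  toFun f := (1 : B) ⊗ₜ f
  map_add' _ _ := tmul_add _ _ _
  map_smul' r f := by
    rw [← smul_tmul, Algebra.smul_def, smul_tmul', smul_eq_mul]

lemma mk1_apply (f : CotT.relMod P) : mk1 P f = (1 : B) ⊗ₜ f := rfl

lemma mk1_surjective : Function.Surjective (mk1 P) := fun z =>
  (exists_eq_one_tmul P z).imp fun _ h => h.symm

lemma mk1_single (s : σ) (r : P.toExtension.Ring) :
    mk1 P (Finsupp.single s r) = algebraMap P.toExtension.Ring B r • CotT.L1basis P s := by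
  rw [CotT.L1basis_apply, ← mk1_apply, ← map_smulₛₗ, Finsupp.smul_single, smul_eq_mul, mul_one]

lemma mk1_eq_zero_of_mem_trivRel {y : CotT.relMod P} (hy : y ∈ CotT.trivRel P) : mk1 P y = 0 :=
  CotT.one_tmul_eq_zero_of_mem_trivRel P y hy

/-- `Q → L₂`, `q ↦` class of `1 ⊗ q`. -/
def mk2 : CotT.relKer P →ₛₗ[algebraMap P.toExtension.Ring B] CotT.L2 P where
  toFun q := Submodule.Quotient.mk ((1 : B) ⊗ₜ q)
  map_add' _ _ := by rw [tmul_add, Submodule.Quotient.mk_add]
  map_smul' r q := by
    rw [← Submodule.Quotient.mk_smul, ← smul_tmul, Algebra.smul_def, smul_tmul', smul_eq_mul]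

lemma mk2_apply (q : CotT.relKer P) :
    mk2 P q = Submodule.Quotient.mk ((1 : B) ⊗ₜ q) := rfl

lemma mk2_surjective : Function.Surjective (mk2 P) := fun z => by
  obtain ⟨z, rfl⟩ := Submodule.Quotient.mk_surjective _ z
  obtain ⟨q, rfl⟩ := exists_eq_one_tmul P z
  exact ⟨q, rfl⟩

lemma mk2_eq_zero_of_mem_trivRel {q : CotT.relKer P} (hq : (q : CotT.relMod P) ∈ CotT.trivRel P) :
    mk2 P q = 0 :=
  (Submodule.Quotient.mk_eq_zero _).mpr ⟨(1 : B) ⊗ₜ (⟨q, hq⟩ : CotT.trivRelKer P), rfl⟩

lemma mk2_eq_of_sub_mem {q q' : CotT.relKer P}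
    (h : (q : CotT.relMod P) - (q' : CotT.relMod P) ∈ CotT.trivRel P) : mk2 P q = mk2 P q' := by
  rw [← sub_eq_zero, ← map_sub]
  exact mk2_eq_zero_of_mem_trivRel P h

lemma smul_mem_trivRel {r : P.toExtension.Ring} (hr : algebraMap P.toExtension.Ring B r = 0)
    (q : CotT.relKer P) : r • (q : CotT.relMod P) ∈ CotT.trivRel P := by
  have hmem : r ∈ LinearMap.range (CotT.jmap P) := by
    rw [CotT.range_jmap]; exact hr
  obtain ⟨a, rfl⟩ := hmem
  have h : CotT.jmap P a • (q : CotT.relMod P) - CotT.jmap P (q : CotT.relMod P) • a ∈ CotT.trivRel P :=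
    Submodule.subset_span ⟨a, q, rfl⟩
  rwa [show CotT.jmap P (q : CotT.relMod P) = 0 from q.2, zero_smul, sub_zero] at h

/-- The converse of `mk2_eq_zero_of_mem_trivRel`. -/
lemma mem_trivRel_of_mk2_eq_zero {q : CotT.relKer P} (hq : mk2 P q = 0) :
    (q : CotT.relMod P) ∈ CotT.trivRel P := by
  let N := CotT.relMod P ⧸ CotT.trivRel P
  obtain ⟨sec, hsec⟩ := (surjective_algebraMap P).hasRightInverse
  have hkill : ∀ r s, algebraMap P.toExtension.Ring B r = algebraMap P.toExtension.Ring B s →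
      ∀ x : CotT.relKer P, (Submodule.Quotient.mk (r • (x : CotT.relMod P)) : N) =
        Submodule.Quotient.mk (s • (x : CotT.relMod P)) := by
    intro r s hrs x
    rw [Submodule.Quotient.eq, ← sub_smul]
    exact smul_mem_trivRel P (by rw [map_sub, hrs, sub_self]) x
  let Φ : B ⊗[P.toExtension.Ring] CotT.relKer P →ₗ[P.toExtension.Ring] N :=
    TensorProduct.lift (LinearMap.mk₂ P.toExtension.Ring
      (fun b x => (Submodule.Quotient.mk (sec b • (x : CotT.relMod P)) : N))
      (fun b b' x => by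
        rw [← Submodule.Quotient.mk_add, ← add_smul]
        exact hkill _ _ (by rw [hsec, map_add, hsec, hsec]) x)
      (fun r b x => by
        rw [← Submodule.Quotient.mk_smul, smul_smul]
        exact hkill _ _ (by rw [hsec, map_mul, hsec, Algebra.smul_def]) x)
      (fun b x y => by rw [Submodule.coe_add, smul_add, Submodule.Quotient.mk_add])
      (fun r b x => by rw [Submodule.coe_smul, smul_comm, Submodule.Quotient.mk_smul]))
  have hΦ : ∀ x : CotT.relKer P, Φ ((1 : B) ⊗ₜ x) = Submodule.Quotient.mk (x : CotT.relMod P) := fun x => by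
    have h1 := hkill (sec 1) 1 (by rw [hsec, map_one]) x
    rw [one_smul] at h1
    exact h1
  obtain ⟨z, hz⟩ := (Submodule.Quotient.mk_eq_zero _).mp hq
  have h0 : ∀ z, Φ ((CotT.trivRelKer P).subtype.baseChange B z) = 0 := by
    intro z
    induction z using TensorProduct.induction_on with
    | zero => simp
    | add x y hx hy => rw [map_add, map_add, hx, hy, add_zero]
    | tmul b k =>
      rw [LinearMap.baseChange_tmul]
      exact (Submodule.Quotient.mk_eq_zero _).mpr (Submodule.smul_mem _ _ k.2)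
  have h1 : (Submodule.Quotient.mk (q : CotT.relMod P) : N) = 0 := by
    rw [← hΦ, ← hz, h0]
  exact (Submodule.Quotient.mk_eq_zero _).mp h1

lemma mk2_smul (r : P.toExtension.Ring) (q : CotT.relKer P) :
    mk2 P (r • q) = algebraMap P.toExtension.Ring B r • mk2 P q := (mk2 P).map_smulₛₗ r q

lemma d2_mk2 (q : CotT.relKer P) : CotT.d2 P (mk2 P q) = mk1 P (q : CotT.relMod P) :=
  CotT.d2_mk_tmul P 1 q

/-- `R → L₀`, `r ↦ 1 ⊗ dr`. -/
def dR (r : P.toExtension.Ring) : CotT.L0 P :=
  (1 : B) ⊗ₜ KaehlerDifferential.D A P.toExtension.Ring r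

lemma dR_add (r s : P.toExtension.Ring) : dR P (r + s) = dR P r + dR P s := by
  simp only [dR, map_add, tmul_add]

lemma dR_sub (r s : P.toExtension.Ring) : dR P (r - s) = dR P r - dR P s := by
  simp only [dR, map_sub, tmul_sub]

lemma dR_zero : dR P 0 = 0 := by simp only [dR, map_zero, tmul_zero]

lemma dR_algebraMap (a : A) : dR P (algebraMap A P.toExtension.Ring a) = 0 := by
  simp only [dR, Derivation.map_algebraMap, tmul_zero]

lemma dR_mul (r s : P.toExtension.Ring) :
    dR P (r * s) = algebraMap P.toExtension.Ring B r • dR P s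
      + algebraMap P.toExtension.Ring B s • dR P r := by
  simp only [dR, Derivation.leibniz, tmul_add, tmul_smul, algebraMap_smul]

lemma d1_mk1 (f : CotT.relMod P) : CotT.d1 P (mk1 P f) = dR P (CotT.jmap P f) := by
  rw [mk1_apply, CotT.d1_tmul, one_smul]
  rfl

lemma cotangentSpaceBasis_eq_dR (i : ι) :
    P.cotangentSpaceBasis i = dR P (MvPolynomial.X i) :=
  Algebra.Generators.cotangentSpaceBasis_apply P.toGenerators i

variable {P}
variable {N : Type m} [AddCommGroup N] [Module B N]

lemma L1_ext {φ φ' : CotT.L1 P →ₗ[B] N} (h : ∀ f, φ (mk1 P f) = φ' (mk1 P f)) : φ = φ' :=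
  LinearMap.ext fun z => by
    obtain ⟨f, rfl⟩ := mk1_surjective P z
    exact h f

lemma L2_ext {φ φ' : CotT.L2 P →ₗ[B] N} (h : ∀ q, φ (mk2 P q) = φ' (mk2 P q)) : φ = φ' :=
  LinearMap.ext fun z => by
    obtain ⟨q, rfl⟩ := mk2_surjective P z
    exact h q

lemma L0_ext {φ φ' : CotT.L0 P →ₗ[B] N}
    (h : ∀ i, φ (dR P (MvPolynomial.X i)) = φ' (dR P (MvPolynomial.X i))) : φ = φ' :=
  P.cotangentSpaceBasis.ext fun i => by rw [cotangentSpaceBasis_eq_dR]; exact h i

section Hom

variable {A' : Type*} {B' : Type*} {ι' : Type*} {σ' : Type*}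
variable [CommRing A'] [CommRing B'] [Algebra A' B']
variable [Algebra A A'] [Algebra B B'] [Algebra A B'] [IsScalarTower A A' B'] [IsScalarTower A B B']
variable {P' : Algebra.Presentation A' B' ι' σ'} (h : CotT.PresHom P P')

lemma L1map_mk1 (f : CotT.relMod P) : h.L1map (mk1 P f) = mk1 P' (h.relModMap f) := by
  rw [mk1_apply, CotT.PresHom.L1map_tmul, map_one]
  rfl

lemma L2map_mk2 (q : CotT.relKer P) : h.L2map (mk2 P q) = mk2 P' (h.relKerMap q) := by
  rw [mk2_apply, CotT.PresHom.L2map_mk_tmul, map_one]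
  rfl

lemma L0map_dR (r : P.toExtension.Ring) : h.L0map (dR P r) = dR P' (h.ringHom r) := by
  rw [CotT.PresHom.L0map_apply, dR, Algebra.Extension.CotangentSpace.map_tmul, map_one]
  rfl

end Hom

end CotTLib

end
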