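import Groth.Agent.CotTLib.Invariance

/-!
# The cotangent complex of a composite presentation

For presentations `P` of `B/A` and `Q` of `C/B`, the composite presentation `Q.comp P` of `C/A` maps to `Q`
(`projH`) and receives `P` (`inclH`); the two maps make the cochain complexes into short exact sequences in
degrees `0`, `1`, and a left exact sequence in degree `2`.
-/

noncomputable section

open TensorProduct

namespace CotTLib

variable {A B C ι σ κ τ : Type*}
variable [CommRing A] [CommRing B] [CommRing C] [Algebra A B] [Algebra B C] [Algebra A C] [IsScalarTower A B C]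
variable (Q : Algebra.Presentation B C κ τ) (P : Algebra.Presentation A B ι σ)

/-- `Q.comp P → Q`. -/
def projH : CotT.PresHom (Q.comp P) Q where
  hom := Q.toGenerators.ofComp P.toGenerators
  relVal := Sum.elim (fun s => Finsupp.single s 1) 0
  jmap_relVal := by
    rintro (s | s)
    · rw [Sum.elim_inl, CotT.jmap_single, one_mul]
      exact (Q.comp_aeval_relation_inl P s).symm
    · rw [Sum.elim_inr, Pi.zero_apply, map_zero]
      have h1 := Algebra.Generators.toAlgHom_ofComp_rename Q.toGenerators P.toGenerators (P.relation s)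
      have h2 : algebraMap P.toExtension.Ring B (CotT.rel P s) = 0 := CotT.algebraMap_rel P s
      refine Eq.symm (h1.trans ?_)
      exact (congrArg MvPolynomial.C h2).trans (map_zero _)

/-- `P → Q.comp P`. -/
def inclH : CotT.PresHom P (Q.comp P) where
  hom := Q.toGenerators.toComp P.toGenerators
  relVal s := Finsupp.single (Sum.inr s) 1
  jmap_relVal s := by
    rw [CotT.jmap_single, one_mul]
    exact (AlgHom.congr_fun (Algebra.Generators.toComp_toAlgHom Q.toGenerators P.toGenerators) _).symm

lemma inclH_relModMap_single (s : σ) (r : P.toExtension.Ring) :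
    (inclH Q P).relModMap (Finsupp.single s r) = Finsupp.single (Sum.inr s) ((inclH Q P).ringHom r) := by
  rw [CotT.PresHom.relModMap_single]
  change (inclH Q P).ringHom r • Finsupp.single (Sum.inr s) 1 = _
  rw [Finsupp.smul_single, smul_eq_mul, mul_one]

lemma projH_relModMap_inl (s : τ) (r : (Q.comp P).toExtension.Ring) :
    (projH Q P).relModMap (Finsupp.single (Sum.inl s) r) = Finsupp.single s ((projH Q P).ringHom r) := by
  rw [CotT.PresHom.relModMap_single]
  change (projH Q P).ringHom r • Finsupp.single s 1 = _
  rw [Finsupp.smul_single, smul_eq_mul, mul_one]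

lemma projH_relModMap_inr (s : σ) (r : (Q.comp P).toExtension.Ring) :
    (projH Q P).relModMap (Finsupp.single (Sum.inr s) r) = 0 := by
  rw [CotT.PresHom.relModMap_single]
  change (projH Q P).ringHom r • (0 : CotT.relMod Q) = 0
  rw [smul_zero]

lemma projH_inclH_relModMap (x : CotT.relMod P) :
    (projH Q P).relModMap ((inclH Q P).relModMap x) = 0 := by
  induction x using Finsupp.induction_linear with
  | zero => simp
  | add x y hx hy => rw [map_add, map_add, hx, hy, add_zero]
  | single s r => rw [inclH_relModMap_single, projH_relModMap_inr]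

lemma projH_ringHom_surjective : Function.Surjective (projH Q P).ringHom :=
  Algebra.Generators.toAlgHom_ofComp_surjective Q.toGenerators P.toGenerators

lemma projH_ringHom_X_inl (i : κ) :
    (projH Q P).ringHom (MvPolynomial.X (Sum.inl i)) = MvPolynomial.X i :=
  (Algebra.Generators.Hom.toAlgHom_X (Q.toGenerators.ofComp P.toGenerators) _).trans rfl

lemma projH_ringHom_X_inr (i : ι) :
    (projH Q P).ringHom (MvPolynomial.X (Sum.inr i)) = algebraMap B Q.toExtension.Ring (P.val i) :=
  (Algebra.Generators.Hom.toAlgHom_X (Q.toGenerators.ofComp P.toGenerators) _).trans rfl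

lemma inclH_ringHom_X (i : ι) :
    (inclH Q P).ringHom (MvPolynomial.X i) = MvPolynomial.X (Sum.inr i) :=
  (Algebra.Generators.Hom.toAlgHom_X (Q.toGenerators.toComp P.toGenerators) _).trans rfl

/-- The submodule of `F` of the composite supported on the relations of `P`. -/
def inrSub : Submodule (Q.comp P).toExtension.Ring (CotT.relMod (Q.comp P)) :=
  Submodule.span _ (Set.range fun s : σ => Finsupp.single (Sum.inr s) 1)

lemma single_inr_mem (s : σ) (r : (Q.comp P).toExtension.Ring) :
    Finsupp.single (Sum.inr s) r ∈ inrSub Q P := by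
  have : r • Finsupp.single (Sum.inr s) (1 : (Q.comp P).toExtension.Ring) ∈ inrSub Q P :=
    Submodule.smul_mem _ _ (Submodule.subset_span ⟨s, rfl⟩)
  rwa [Finsupp.smul_single, smul_eq_mul, mul_one] at this

lemma mem_jmap_inrSub_of_ker {c : (Q.comp P).toExtension.Ring} (hc : (projH Q P).ringHom c = 0) :
    c ∈ (inrSub Q P).map (CotT.jmap (Q.comp P)) := by
  have h1 : c ∈ P.ker.map (Q.toGenerators.toComp P.toGenerators).toAlgHom := by
    rw [Algebra.Generators.map_toComp_ker]
    exact hc
  rw [← P.span_range_relation_eq_ker, Ideal.map_span] at h1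
  have h2 : Ideal.span ((Q.toGenerators.toComp P.toGenerators).toAlgHom '' Set.range P.relation) ≤
      ((inrSub Q P).map (CotT.jmap (Q.comp P)) : Submodule _ _) := by
    refine Ideal.span_le.mpr ?_
    rintro _ ⟨_, ⟨s, rfl⟩, rfl⟩
    refine ⟨Finsupp.single (Sum.inr s) 1, single_inr_mem Q P s 1, ?_⟩
    rw [CotT.jmap_single, one_mul]
    exact (AlgHom.congr_fun (Algebra.Generators.toComp_toAlgHom Q.toGenerators P.toGenerators) _).symm
  exact h2 h1

/-- An element of `F` killed by the projection lies in the inr part plus the trivial relations. -/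
lemma mem_sup_of_projH_eq_zero {y : CotT.relMod (Q.comp P)} (hy : (projH Q P).relModMap y = 0) :
    y ∈ inrSub Q P ⊔ CotT.trivRel (Q.comp P) := by
  classical
  rw [← y.sum_single]
  refine Submodule.sum_mem _ fun a _ => ?_
  rcases a with s | s
  · have hc : (projH Q P).ringHom (y (Sum.inl s)) = 0 := by
      have key : ∀ z : CotT.relMod (Q.comp P),
          (projH Q P).relModMap z s = (projH Q P).ringHom (z (Sum.inl s)) := by
        intro z
        induction z using Finsupp.induction_linear with
        | zero => simp
        | add x w hx hw => simp only [map_add, Finsupp.add_apply, hx, hw]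
        | single a r =>
          rcases a with t | t
          · rw [projH_relModMap_inl, Finsupp.single_apply, Finsupp.single_apply]
            by_cases hts : t = s <;> simp [hts]
          · rw [projH_relModMap_inr]
            simp
      rw [← key, hy, Finsupp.zero_apply]
    obtain ⟨a, ha, hac⟩ := mem_jmap_inrSub_of_ker Q P hc
    set e : CotT.relMod (Q.comp P) := Finsupp.single (Sum.inl s) 1 with he
    have : Finsupp.single (Sum.inl s) (y (Sum.inl s)) =
        (CotT.jmap (Q.comp P) a • e - CotT.jmap (Q.comp P) e • a) + CotT.jmap (Q.comp P) e • a := by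
      rw [sub_add_cancel, hac, he, Finsupp.smul_single, smul_eq_mul, mul_one]
    rw [this]
    exact add_mem (Submodule.mem_sup_right (Submodule.subset_span ⟨a, e, rfl⟩))
      (Submodule.mem_sup_left (Submodule.smul_mem _ _ ha))
  · exact Submodule.mem_sup_left (single_inr_mem Q P s _)

/-- Relations among the relations of `P` in the composite ring come from relations of `P`. -/
lemma mem_span_incl_of_inr {y : CotT.relMod (Q.comp P)} (hy : y ∈ inrSub Q P)
    (hj : CotT.jmap (Q.comp P) y = 0) :
    y ∈ Submodule.span (Q.comp P).toExtension.Ring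
      ((inclH Q P).relModMap '' (CotT.relKer P : Set (CotT.relMod P))) := by
  classical
  let e : (Q.comp P).toExtension.Ring ≃+* MvPolynomial κ P.toExtension.Ring :=
    (MvPolynomial.sumAlgEquiv A κ ι).toRingEquiv
  have hincl : ∀ r : P.toExtension.Ring, e ((inclH Q P).ringHom r) = MvPolynomial.C r := by
    intro r
    have h1 : (inclH Q P).ringHom r = MvPolynomial.rename Sum.inr r :=
      AlgHom.congr_fun (Algebra.Generators.toComp_toAlgHom Q.toGenerators P.toGenerators) r
    rw [h1]
    exact AlgHom.congr_fun (MvPolynomial.sumAlgEquiv_comp_rename_inr A κ ι) r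
  -- `y` as a family indexed by the relations of `P`
  obtain ⟨Y, rfl⟩ : ∃ Y : σ →₀ (Q.comp P).toExtension.Ring, Y.mapDomain Sum.inr = y := by
    refine Submodule.span_induction ?_ ?_ ?_ ?_ hy
    · rintro _ ⟨s, rfl⟩
      exact ⟨Finsupp.single s 1, Finsupp.mapDomain_single⟩
    · exact ⟨0, Finsupp.mapDomain_zero⟩
    · rintro a b - - ⟨Ya, rfl⟩ ⟨Yb, rfl⟩
      exact ⟨Ya + Yb, Finsupp.mapDomain_add⟩
    · rintro c a - ⟨Ya, rfl⟩
      exact ⟨c • Ya, Finsupp.mapDomain_smul _ _⟩
  -- its components along the monomials in the variables of `Q`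
  let Ym : (κ →₀ ℕ) → CotT.relMod P := fun m =>
    Y.mapRange (fun c => MvPolynomial.coeff m (e c)) (by rw [map_zero, MvPolynomial.coeff_zero])
  let mon : (κ →₀ ℕ) → (Q.comp P).toExtension.Ring := fun m => e.symm (MvPolynomial.monomial m 1)
  have hYm : ∀ m, Ym m ∈ CotT.relKer P := by
    intro m
    change CotT.jmap P (Ym m) = 0
    have key : ∀ Z : σ →₀ (Q.comp P).toExtension.Ring,
        CotT.jmap P (Z.mapRange (fun c => MvPolynomial.coeff m (e c)) (by rw [map_zero, MvPolynomial.coeff_zero]))
          = MvPolynomial.coeff m (e (CotT.jmap (Q.comp P) (Z.mapDomain Sum.inr))) := by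
      intro Z
      induction Z using Finsupp.induction_linear with
      | zero => simp
      | add x w hx hw =>
        rw [Finsupp.mapRange_add (by intro a b; rw [map_add, MvPolynomial.coeff_add]),
          map_add, hx, hw, Finsupp.mapDomain_add, map_add, map_add, MvPolynomial.coeff_add]
      | single s c =>
        rw [Finsupp.mapRange_single, Finsupp.mapDomain_single, CotT.jmap_single, CotT.jmap_single, map_mul]
        have : CotT.rel (Q.comp P) (Sum.inr s) = (inclH Q P).ringHom (CotT.rel P s) :=
          (AlgHom.congr_fun (Algebra.Generators.toComp_toAlgHom Q.toGenerators P.toGenerators) _).symm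
        rw [this, hincl, mul_comm (e c), MvPolynomial.coeff_C_mul, mul_comm]
    rw [key Y, hj, map_zero, MvPolynomial.coeff_zero]
  let supp : Finset (κ →₀ ℕ) := Y.support.biUnion fun s => (e (Y s)).support
  have hy' : Y.mapDomain Sum.inr = ∑ m ∈ supp, mon m • (inclH Q P).relModMap (Ym m) := by
    have key : ∀ m, mon m • (inclH Q P).relModMap (Ym m) =
        Finsupp.mapDomain Sum.inr (Y.mapRange (fun c => mon m * (inclH Q P).ringHom (MvPolynomial.coeff m (e c)))
          (by rw [map_zero, MvPolynomial.coeff_zero, map_zero, mul_zero])) := by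
      intro m
      ext a
      have hincl' : ∀ Z : CotT.relMod P,
          (inclH Q P).relModMap Z = Finsupp.mapDomain Sum.inr (Z.mapRange (inclH Q P).ringHom (map_zero _)) := by
        intro Z
        induction Z using Finsupp.induction_linear with
        | zero => simp
        | add x w hx hw => rw [map_add, hx, hw, Finsupp.mapRange_add (map_add _), Finsupp.mapDomain_add]
        | single s r => rw [inclH_relModMap_single, Finsupp.mapRange_single, Finsupp.mapDomain_single]
      rw [hincl', Finsupp.smul_apply, smul_eq_mul]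
      rcases a with t | t
      · rw [Finsupp.mapDomain_of_notMem_range _ _ (by simp), Finsupp.mapDomain_of_notMem_range _ _ (by simp),
          mul_zero]
      · rw [Finsupp.mapDomain_apply Sum.inr_injective, Finsupp.mapDomain_apply Sum.inr_injective]
        simp [Ym]
    rw [Finset.sum_congr rfl fun m _ => key m, ← Finsupp.mapDomain_finsetSum]
    congr 1
    ext s
    rw [Finsupp.finsetSum_apply]
    simp only [Finsupp.mapRange_apply]
    by_cases hs : s ∈ Y.support
    · have hsub : (e (Y s)).support ⊆ supp := Finset.subset_biUnion_of_mem (fun s => (e (Y s)).support) hs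
      apply e.injective
      rw [map_sum]
      conv_lhs => rw [← MvPolynomial.support_sum_monomial_coeff (e (Y s))]
      rw [Finset.sum_subset hsub (fun m _ hm => by
        rw [MvPolynomial.notMem_support_iff.mp hm, MvPolynomial.monomial_zero])]
      refine Finset.sum_congr rfl fun m _ => ?_
      rw [map_mul, hincl, show e (mon m) = MvPolynomial.monomial m 1 from e.apply_symm_apply _, mul_comm,
        MvPolynomial.C_mul_monomial, mul_one]
    · rw [Finsupp.notMem_support_iff.mp hs]
      simp
  rw [hy']
  exact Submodule.sum_mem _ fun m _ => Submodule.smul_mem _ _ (Submodule.subset_span ⟨Ym m, hYm m, rfl⟩)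

/-- Every trivial relation of `Q` lifts to one of the composite. -/
lemma exists_trivRel_lift {y : CotT.relMod Q} (hy : y ∈ CotT.trivRel Q) :
    ∃ z ∈ CotT.trivRel (Q.comp P), (projH Q P).relModMap z = y := by
  have hsurj : ∀ x : CotT.relMod Q, ∃ z, (projH Q P).relModMap z = x := by
    intro x
    induction x using Finsupp.induction_linear with
    | zero => exact ⟨0, map_zero _⟩
    | add x w hx hw =>
      obtain ⟨a, rfl⟩ := hx
      obtain ⟨b, rfl⟩ := hw
      exact ⟨a + b, map_add _ _ _⟩
    | single s r =>
      obtain ⟨c, rfl⟩ := projH_ringHom_surjective Q P r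
      exact ⟨Finsupp.single (Sum.inl s) c, projH_relModMap_inl Q P s c⟩
  induction hy using Submodule.span_induction with
  | mem x hx =>
    obtain ⟨a, b, rfl⟩ := hx
    obtain ⟨a', rfl⟩ := hsurj a
    obtain ⟨b', rfl⟩ := hsurj b
    refine ⟨CotT.jmap (Q.comp P) a' • b' - CotT.jmap (Q.comp P) b' • a', Submodule.subset_span ⟨a', b', rfl⟩, ?_⟩
    rw [map_sub, LinearMap.map_smulₛₗ, LinearMap.map_smulₛₗ, CotT.PresHom.jmap_relModMap,
      CotT.PresHom.jmap_relModMap]
  | zero => exact ⟨0, zero_mem _, map_zero _⟩
  | add x w _ _ hx hw =>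
    obtain ⟨a, ha, rfl⟩ := hx
    obtain ⟨b, hb, rfl⟩ := hw
    exact ⟨a + b, add_mem ha hb, map_add _ _ _⟩
  | smul r x _ hx =>
    obtain ⟨a, ha, rfl⟩ := hx
    obtain ⟨c, rfl⟩ := projH_ringHom_surjective Q P r
    exact ⟨c • a, Submodule.smul_mem _ _ ha, LinearMap.map_smulₛₗ _ _ _⟩

/-- The relation module of the composite surjects onto that of `Q`. -/
lemma projH_relKerMap_surjective : Function.Surjective (projH Q P).relKerMap := by
  intro q
  have hsurj : ∀ x : CotT.relMod Q, ∃ z, (projH Q P).relModMap z = x := by
    intro x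
    induction x using Finsupp.induction_linear with
    | zero => exact ⟨0, map_zero _⟩
    | add x w hx hw =>
      obtain ⟨a, rfl⟩ := hx
      obtain ⟨b, rfl⟩ := hw
      exact ⟨a + b, map_add _ _ _⟩
    | single s r =>
      obtain ⟨c, rfl⟩ := projH_ringHom_surjective Q P r
      exact ⟨Finsupp.single (Sum.inl s) c, projH_relModMap_inl Q P s c⟩
  obtain ⟨z, hz⟩ := hsurj q
  have hc : (projH Q P).ringHom (CotT.jmap (Q.comp P) z) = 0 := by
    rw [← CotT.PresHom.jmap_relModMap, hz]
    exact q.2
  obtain ⟨a, ha, hac⟩ := mem_jmap_inrSub_of_ker Q P hc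
  refine ⟨⟨z - a, show CotT.jmap _ (z - a) = 0 by rw [map_sub, hac, sub_self]⟩, Subtype.ext ?_⟩
  rw [CotT.PresHom.relKerMap_coe, map_sub, hz]
  have h0 : (projH Q P).relModMap a = 0 := by
    clear hac
    induction ha using Submodule.span_induction with
    | mem x hx => obtain ⟨s, rfl⟩ := hx; exact projH_relModMap_inr Q P s 1
    | zero => exact map_zero _
    | add x w _ _ hx hw => rw [map_add, hx, hw, add_zero]
    | smul r x _ hx => rw [LinearMap.map_smulₛₗ, hx, smul_zero]
  rw [h0, sub_zero]

end CotTLib

end
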