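import Groth.Agent.CotTLib.Homotopy

/-!
# Functoriality of the maps on `Tⁱ` and independence of the presentation
-/

noncomputable section

open TensorProduct

namespace CotTLib

section

variable {A B ι σ A' B' ι' σ' : Type*}
variable [CommRing A] [CommRing B] [Algebra A B] [CommRing A'] [CommRing B'] [Algebra A' B']
variable [Algebra A A'] [Algebra B B'] [Algebra A B'] [IsScalarTower A A' B'] [IsScalarTower A B B']
variable {P : Algebra.Presentation A B ι σ} {P' : Algebra.Presentation A' B' ι' σ'}
variable (h h' : CotT.PresHom P P')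
variable {M : Type*} [AddCommGroup M] [Module B' M] [Module B M] [IsScalarTower B B' M]

lemma T1pull_mk (φ : CotT.cocycles1 P' M) :
    h.T1pull M (Submodule.Quotient.mk φ) = Submodule.Quotient.mk (h.cocycles1Pull M φ) := rfl

lemma T2pull_mk (φ : CotT.L2 P' →ₗ[B'] M) :
    h.T2pull M (Submodule.Quotient.mk φ) = Submodule.Quotient.mk (h.pull2 M φ) := rfl

lemma T0pull_coe (ψ : CotT.T0 P' M) : (h.T0pull M ψ : CotT.L0 P →ₗ[B] M) = h.pull0 M ψ := rfl

lemma smul_eq (b : B) (x : M) : algebraMap B B' b • x = b • x := algebraMap_smul B' b x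

/-- The homotopy in degree one on a `f : F`. -/
lemma mk1_sub_eq {δ : P.toExtension.Ring → CotT.relMod P'} {η : σ → CotT.relKer P'}
    (hη : ∀ f : CotT.relMod P,
        h.relModMap f - h'.relModMap f
          - (Finsupp.linearCombination P'.toExtension.Ring (fun s => (η s : CotT.relMod P'))
              (Finsupp.mapRange h.ringHom (map_zero _) f) + δ (CotT.jmap P f)) ∈ CotT.trivRel P')
    (f : CotT.relMod P) :
    mk1 P' (h.relModMap f) - mk1 P' (h'.relModMap f) =
      mk1 P' (Finsupp.linearCombination P'.toExtension.Ring (fun s => (η s : CotT.relMod P'))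
              (Finsupp.mapRange h.ringHom (map_zero _) f)) + mk1 P' (δ (CotT.jmap P f)) := by
  rw [← map_sub, ← map_add, ← sub_eq_zero, ← map_sub]
  exact mk1_eq_zero_of_mem_trivRel P' (hη f)

/-- The maps on `T⁰` do not depend on the morphism of presentations. -/
theorem T0pull_eq : h.T0pull M = h'.T0pull M := by
  refine LinearMap.ext fun ψ => Subtype.ext (L0_ext fun i => ?_)
  rw [T0pull_coe, T0pull_coe, CotT.PresHom.pull0_apply, CotT.PresHom.pull0_apply, L0map_dR, L0map_dR,
    ← sub_eq_zero, ← map_sub, ← dR_sub]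
  obtain ⟨g, hg⟩ := jmap_surj_of_mem_ker (P' := P')
    (r := h.ringHom (MvPolynomial.X i) - h'.ringHom (MvPolynomial.X i))
    (by rw [map_sub, h.algebraMap_ringHom, h'.algebraMap_ringHom, sub_self])
  rw [← hg, ← d1_mk1]
  exact LinearMap.congr_fun (show CotT.d1Star P' M (ψ : CotT.L0 P' →ₗ[B'] M) = 0 from ψ.2) _

/-- The maps on `T¹` do not depend on the morphism of presentations. -/
theorem T1pull_eq : h.T1pull M = h'.T1pull M := by
  refine LinearMap.ext fun x => ?_
  obtain ⟨φ, rfl⟩ := Submodule.Quotient.mk_surjective _ x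
  obtain ⟨δ, η, -, hadd, hmul, hconst, hη⟩ := exists_homotopy h h'
  rw [T1pull_mk, T1pull_mk, Submodule.Quotient.eq]
  have hφ : ∀ q : CotT.relKer P', (φ : CotT.L1 P' →ₗ[B'] M) (mk1 P' (q : CotT.relMod P')) = 0 := fun q => by
    rw [← d2_mk2]
    exact LinearMap.congr_fun (show CotT.d2Star P' M (φ : CotT.L1 P' →ₗ[B'] M) = 0 from φ.2) _
  set F : CotT.relMod P' → M := fun x => (φ : CotT.L1 P' →ₗ[B'] M) (mk1 P' x) with hF
  have hFtriv : ∀ {x y : CotT.relMod P'}, x - y ∈ CotT.trivRel P' → F x = F y := fun hxy => by
    rw [hF, ← sub_eq_zero, ← map_sub, ← map_sub, mk1_eq_zero_of_mem_trivRel P' hxy, map_zero]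
  have hFsmul : ∀ (r : P.toExtension.Ring) (g : CotT.PresHom P P') (x : CotT.relMod P'),
      F (g.ringHom r • x) = algebraMap P.toExtension.Ring B r • F x := fun r g x => by
    simp only [hF]
    rw [(mk1 P').map_smulₛₗ, map_smul, g.algebraMap_ringHom, smul_eq]
  let ψ : CotT.L0 P →ₗ[B] M :=
    P.cotangentSpaceBasis.constr B fun i => F (δ (MvPolynomial.X i))
  have hψ : ∀ r : P.toExtension.Ring, F (δ r) = ψ (dR P r) := by
    intro r
    have key : ∀ p : MvPolynomial _ A,
        F (δ (p : P.toExtension.Ring)) = ψ (dR P (p : P.toExtension.Ring)) := by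
      intro p
      induction p using MvPolynomial.induction_on with
      | C a =>
        have h1 : dR P (MvPolynomial.C a : P.toExtension.Ring) = 0 := dR_algebraMap P a
        have h2 : F (δ (MvPolynomial.C a)) = F 0 := hFtriv (by rw [sub_zero]; exact hconst a)
        rw [h1, map_zero]
        refine h2.trans ?_
        simp [hF]
      | add p q hp hq =>
        have h1 : dR P ((p + q : MvPolynomial _ A) : P.toExtension.Ring) = dR P p + dR P q := dR_add P p q
        have h2 : F (δ (p + q)) = F (δ p + δ q) := hFtriv (hadd p q)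
        rw [h1]
        refine h2.trans ?_
        rw [map_add, ← hp, ← hq]
        simp [hF]
      | mul_X p i hp =>
        have h1 : dR P ((p * MvPolynomial.X i : MvPolynomial _ A) : P.toExtension.Ring)
            = algebraMap P.toExtension.Ring B (p : P.toExtension.Ring) • dR P (MvPolynomial.X i)
              + algebraMap P.toExtension.Ring B (MvPolynomial.X i : P.toExtension.Ring) • dR P p :=
          dR_mul P p (MvPolynomial.X i)
        have h2 : F (δ (p * MvPolynomial.X i)) =
            F (h.ringHom p • δ (MvPolynomial.X i) + h'.ringHom (MvPolynomial.X i) • δ p) :=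
          hFtriv (hmul p (MvPolynomial.X i))
        have h3 : ψ (dR P (MvPolynomial.X i)) = F (δ (MvPolynomial.X i)) := by
          rw [← cotangentSpaceBasis_eq_dR]
          exact P.cotangentSpaceBasis.constr_basis _ _ _
        rw [h1]
        refine h2.trans ?_
        rw [map_add ψ, map_smul, map_smul, ← hp, h3]
        rw [show ∀ x y, F (x + y) = F x + F y from fun x y => by simp [hF], hFsmul, hFsmul]
    exact key r
  refine ⟨ψ, L1_ext fun f => ?_⟩
  change ψ (CotT.d1 P (mk1 P f)) = (φ : CotT.L1 P' →ₗ[B'] M) (h.L1map (mk1 P f))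
    - (φ : CotT.L1 P' →ₗ[B'] M) (h'.L1map (mk1 P f))
  rw [d1_mk1, ← hψ, L1map_mk1, L1map_mk1, ← map_sub, mk1_sub_eq h h' hη, map_add]
  have hsum : (φ : CotT.L1 P' →ₗ[B'] M) (mk1 P'
      (Finsupp.linearCombination P'.toExtension.Ring (fun s => (η s : CotT.relMod P'))
              (Finsupp.mapRange h.ringHom (map_zero _) f))) = 0 := by
    rw [Finsupp.linearCombination_apply, map_finsuppSum, map_finsuppSum]
    refine Finset.sum_eq_zero fun s _ => ?_
    simp only [map_smulₛₗ, hφ, smul_zero]
  rw [hsum, zero_add]

lemma mk2_relKerMap_sub {δ : P.toExtension.Ring → CotT.relMod P'} {η : σ → CotT.relKer P'}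
    (hadd : ∀ r s, δ (r + s) - (δ r + δ s) ∈ CotT.trivRel P')
    (hη : ∀ f : CotT.relMod P,
        h.relModMap f - h'.relModMap f
          - (Finsupp.linearCombination P'.toExtension.Ring (fun s => (η s : CotT.relMod P'))
              (Finsupp.mapRange h.ringHom (map_zero _) f) + δ (CotT.jmap P f)) ∈ CotT.trivRel P')
    (q : CotT.relKer P) :
    mk2 P' (h.relKerMap q) - mk2 P' (h'.relKerMap q) =
      mk2 P' (Finsupp.linearCombination P'.toExtension.Ring η
        (Finsupp.mapRange h.ringHom (map_zero _) (q : CotT.relMod P))) := by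
  rw [sub_eq_iff_eq_add, ← map_add]
  refine mk2_eq_of_sub_mem P' ?_
  rw [Submodule.coe_add, ← sub_sub, sub_right_comm]
  have hKc : ((Finsupp.linearCombination P'.toExtension.Ring η
      (Finsupp.mapRange h.ringHom (map_zero _) (q : CotT.relMod P)) : CotT.relKer P') : CotT.relMod P') =
      Finsupp.linearCombination P'.toExtension.Ring (fun s => (η s : CotT.relMod P'))
        (Finsupp.mapRange h.ringHom (map_zero _) (q : CotT.relMod P)) := by
    rw [← Submodule.subtype_apply, Finsupp.apply_linearCombination]
    rfl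
  have hδ0 : δ (CotT.jmap P (q : CotT.relMod P)) ∈ CotT.trivRel P' := by
    rw [show CotT.jmap P (q : CotT.relMod P) = 0 from q.2]
    have := hadd 0 0
    rw [add_zero, ← sub_sub, sub_self, zero_sub] at this
    simpa using (CotT.trivRel P').neg_mem this
  rw [hKc, CotT.PresHom.relKerMap_coe, CotT.PresHom.relKerMap_coe]
  have := (CotT.trivRel P').add_mem (hη q) hδ0
  convert this using 1
  abel

lemma exists_u2 (φ : CotT.L2 P' →ₗ[B'] M) (η : σ → CotT.relKer P') :
    ∃ u : CotT.L1 P →ₗ[B] M, ∀ f : CotT.relMod P, u (mk1 P f)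
      = φ (mk2 P' (Finsupp.linearCombination P'.toExtension.Ring η
          (Finsupp.mapRange h.ringHom (map_zero _) f))) := by
  refine ⟨(CotT.L1basis P).constr B fun s => φ (mk2 P' (η s)), fun f => ?_⟩
  induction f using Finsupp.induction_linear with
  | zero => simp
  | add f g hf hg => simp only [map_add, hf, hg, Finsupp.mapRange_add (map_add _)]
  | single s r =>
    rw [mk1_single, map_smul, Module.Basis.constr_basis, Finsupp.mapRange_single,
      Finsupp.linearCombination_single, map_smulₛₗ, map_smul, h.algebraMap_ringHom]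
    exact (smul_eq (B' := B') _ _).symm

/-- The maps on `T²` do not depend on the morphism of presentations. -/
theorem T2pull_eq : h.T2pull M = h'.T2pull M := by
  refine LinearMap.ext fun x => ?_
  obtain ⟨φ, hx⟩ := Submodule.Quotient.mk_surjective _ x
  obtain ⟨u, hu⟩ : ∃ u : CotT.L1 P →ₗ[B] M, ∀ q : CotT.relKer P,
      u (mk1 P (q : CotT.relMod P)) = φ (mk2 P' (h.relKerMap q)) - φ (mk2 P' (h'.relKerMap q)) := by
    have hh := exists_homotopy h h'
    obtain ⟨δ, η, -, hadd, -, -, hη⟩ := hh
    have he := exists_u2 h (M := M) φ η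
    obtain ⟨u, hu⟩ := he
    exact ⟨u, fun q => (hu _).trans ((congrArg φ (mk2_relKerMap_sub h h' hadd hη q)).symm.trans
      (φ.map_sub _ _))⟩
  subst hx
  rw [T2pull_mk, T2pull_mk]
  refine (Submodule.Quotient.eq _).mpr (LinearMap.mem_range.mpr ⟨u, L2_ext fun q => ?_⟩)
  simp only [CotT.d2Star_apply, LinearMap.sub_apply, LinearMap.comp_apply,
    CotT.PresHom.pull2_apply, L2map_mk2, d2_mk2]
  exact hu q

/-- A morphism of presentations extending a given morphism of generators. -/
def presHomOfHom (g : Algebra.Generators.Hom P.toGenerators P'.toGenerators) : CotT.PresHom P P' where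
  hom := g
  relVal s := Classical.choose (jmap_surj_of_mem_ker (P' := P')
    (r := g.toExtensionHom.toRingHom (CotT.rel P s))
    (by
      have h1 := g.toExtensionHom.algebraMap_toRingHom (CotT.rel P s)
      rw [CotT.algebraMap_rel, map_zero] at h1
      exact h1))
  jmap_relVal s := Classical.choose_spec (jmap_surj_of_mem_ker (P' := P')
    (r := g.toExtensionHom.toRingHom (CotT.rel P s))
    (by
      have h1 := g.toExtensionHom.algebraMap_toRingHom (CotT.rel P s)
      rw [CotT.algebraMap_rel, map_zero] at h1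
      exact h1))

variable (P P') in
/-- Some morphism of presentations. -/
def presHom : CotT.PresHom P P' := presHomOfHom (Algebra.Generators.defaultHom _ _)

end

section Comp

variable {A B ι σ A' B' ι' σ' A'' B'' ι'' σ'' : Type*}
variable [CommRing A] [CommRing B] [Algebra A B] [CommRing A'] [CommRing B'] [Algebra A' B']
variable [CommRing A''] [CommRing B''] [Algebra A'' B'']
variable [Algebra A A'] [Algebra B B'] [Algebra A B'] [IsScalarTower A A' B'] [IsScalarTower A B B']
variable [Algebra A' A''] [Algebra B' B''] [Algebra A' B''] [IsScalarTower A' A'' B''] [IsScalarTower A' B' B'']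
variable [Algebra A A''] [Algebra B B''] [Algebra A B''] [IsScalarTower A A'' B''] [IsScalarTower A B B'']
variable [IsScalarTower A A' A''] [IsScalarTower B B' B''] [IsScalarTower A A' B'']
variable {P : Algebra.Presentation A B ι σ} {P' : Algebra.Presentation A' B' ι' σ'}
variable {P'' : Algebra.Presentation A'' B'' ι'' σ''}
variable (g : CotT.PresHom P' P'') (f : CotT.PresHom P P')

lemma ringHom_comp_apply (x : P.toExtension.Ring) :
    (g.hom.comp f.hom).toExtensionHom.toRingHom x = g.ringHom (f.ringHom x) :=
  Algebra.Generators.Hom.toAlgHom_comp_apply _ _ _ f.hom g.hom x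

/-- Composition of morphisms of presentations. -/
def presHomComp : CotT.PresHom P P'' where
  hom := g.hom.comp f.hom
  relVal s := g.relModMap (f.relVal s)
  jmap_relVal s := by
    rw [g.jmap_relModMap, f.jmap_relVal]
    exact (ringHom_comp_apply g f _).symm

lemma presHomComp_relModMap (x : CotT.relMod P) :
    (presHomComp g f).relModMap x = g.relModMap (f.relModMap x) := by
  induction x using Finsupp.induction_linear with
  | zero => simp
  | add x y hx hy => simp only [map_add, hx, hy]
  | single s r =>
    rw [CotT.PresHom.relModMap_single, CotT.PresHom.relModMap_single, map_smulₛₗ]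
    congr 1
    exact ringHom_comp_apply g f r

variable {M : Type*} [AddCommGroup M] [Module B'' M] [Module B' M] [Module B M]
variable [IsScalarTower B' B'' M] [IsScalarTower B B'' M] [IsScalarTower B B' M]

lemma T0pull_comp (ψ : CotT.T0 P'' M) :
    (presHomComp g f).T0pull M ψ = f.T0pull M (g.T0pull M ψ) := by
  refine Subtype.ext (L0_ext fun i => ?_)
  simp only [T0pull_coe, CotT.PresHom.pull0_apply, L0map_dR]
  rw [show (presHomComp g f).ringHom (MvPolynomial.X i) = g.ringHom (f.ringHom (MvPolynomial.X i))
    from ringHom_comp_apply g f _]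

lemma T1pull_comp (x : CotT.T1 P'' M) :
    (presHomComp g f).T1pull M x = f.T1pull M (g.T1pull M x) := by
  obtain ⟨φ, rfl⟩ := Submodule.Quotient.mk_surjective _ x
  simp only [T1pull_mk]
  congr 1
  refine Subtype.ext (L1_ext fun y => ?_)
  simp only [CotT.PresHom.cocycles1Pull_coe, CotT.PresHom.pull1_apply, L1map_mk1, presHomComp_relModMap]

lemma T2pull_comp (x : CotT.T2 P'' M) :
    (presHomComp g f).T2pull M x = f.T2pull M (g.T2pull M x) := by
  obtain ⟨φ, rfl⟩ := Submodule.Quotient.mk_surjective _ x
  simp only [T2pull_mk]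
  congr 1
  refine L2_ext fun q => ?_
  simp only [CotT.PresHom.pull2_apply, L2map_mk2]
  congr 2
  exact Subtype.ext (by simp only [CotT.PresHom.relKerMap_coe, presHomComp_relModMap])

end Comp

section SameAlgebra

variable {A B ι σ ι' σ' : Type*} [CommRing A] [CommRing B] [Algebra A B]
variable (P : Algebra.Presentation A B ι σ) (P' : Algebra.Presentation A B ι' σ')
variable {M : Type*} [AddCommGroup M] [Module B M]

lemma id_ringHom (r : P.toExtension.Ring) : (CotT.PresHom.id P).ringHom r = r := by
  change (Algebra.Generators.Hom.id P.toGenerators).toAlgHom r = r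
  rw [Algebra.Generators.Hom.toAlgHom_id]
  rfl

lemma id_relModMap (x : CotT.relMod P) : (CotT.PresHom.id P).relModMap x = x := by
  induction x using Finsupp.induction_linear with
  | zero => simp
  | add x y hx hy => simp only [map_add, hx, hy]
  | single s r =>
    rw [CotT.PresHom.relModMap_single, id_ringHom]
    change r • Finsupp.single s 1 = _
    rw [Finsupp.smul_single, smul_eq_mul, mul_one]

lemma T0pull_id (ψ : CotT.T0 P M) : (CotT.PresHom.id P).T0pull M ψ = ψ := by
  refine Subtype.ext (L0_ext fun i => ?_)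
  simp only [T0pull_coe, CotT.PresHom.pull0_apply, L0map_dR, id_ringHom]

lemma T1pull_id (x : CotT.T1 P M) : (CotT.PresHom.id P).T1pull M x = x := by
  obtain ⟨φ, rfl⟩ := Submodule.Quotient.mk_surjective _ x
  rw [T1pull_mk]
  congr 1
  refine Subtype.ext (L1_ext fun y => ?_)
  simp only [CotT.PresHom.cocycles1Pull_coe, CotT.PresHom.pull1_apply, L1map_mk1, id_relModMap]

lemma T2pull_id (x : CotT.T2 P M) : (CotT.PresHom.id P).T2pull M x = x := by
  obtain ⟨φ, rfl⟩ := Submodule.Quotient.mk_surjective _ x
  rw [T2pull_mk]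
  congr 1
  refine L2_ext fun q => ?_
  simp only [CotT.PresHom.pull2_apply, L2map_mk2]
  congr 2
  exact Subtype.ext (by simp only [CotT.PresHom.relKerMap_coe, id_relModMap])

variable {P P'}

lemma T0pull_inv (h : CotT.PresHom P P') (h' : CotT.PresHom P' P) (x : CotT.T0 P M) :
    h.T0pull M (h'.T0pull M x) = x := by
  rw [← T0pull_comp h' h, T0pull_eq _ (CotT.PresHom.id P), T0pull_id]

lemma T1pull_inv (h : CotT.PresHom P P') (h' : CotT.PresHom P' P) (x : CotT.T1 P M) :
    h.T1pull M (h'.T1pull M x) = x := by
  rw [← T1pull_comp h' h, T1pull_eq _ (CotT.PresHom.id P), T1pull_id]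

lemma T2pull_inv (h : CotT.PresHom P P') (h' : CotT.PresHom P' P) (x : CotT.T2 P M) :
    h.T2pull M (h'.T2pull M x) = x := by
  rw [← T2pull_comp h' h, T2pull_eq _ (CotT.PresHom.id P), T2pull_id]

variable (P P' M)

/-- `T⁰` does not depend on the presentation. -/
def T0equiv : CotT.T0 P M ≃ₗ[B] CotT.T0 P' M :=
  LinearEquiv.ofLinearMap ((presHom P' P).T0pull M) ((presHom P P').T0pull M)
    (LinearMap.ext fun x => T0pull_inv (presHom P' P) (presHom P P') x)
    (LinearMap.ext fun x => T0pull_inv (presHom P P') (presHom P' P) x)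

/-- `T¹` does not depend on the presentation. -/
def T1equiv : CotT.T1 P M ≃ₗ[B] CotT.T1 P' M :=
  LinearEquiv.ofLinearMap ((presHom P' P).T1pull M) ((presHom P P').T1pull M)
    (LinearMap.ext fun x => T1pull_inv (presHom P' P) (presHom P P') x)
    (LinearMap.ext fun x => T1pull_inv (presHom P P') (presHom P' P) x)

/-- `T²` does not depend on the presentation. -/
def T2equiv : CotT.T2 P M ≃ₗ[B] CotT.T2 P' M :=
  LinearEquiv.ofLinearMap ((presHom P' P).T2pull M) ((presHom P P').T2pull M)
    (LinearMap.ext fun x => T2pull_inv (presHom P' P) (presHom P P') x)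
    (LinearMap.ext fun x => T2pull_inv (presHom P P') (presHom P' P) x)

end SameAlgebra

end CotTLib

end
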