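import Groth.Prelude.Def_Exal
import Groth.Agent.CotTLib.Invariance
import Mathlib.Tactic.LinearCombination

/-!
# Extensions by a module and `T¹`

For a presentation `P` of `B` over `A`, an extension `X` and a lift `α : R → X.E` of `R → B` give a cocycle
`φ` with `incl (φ (1 ⊗ f)) = α (j f)`; this gives `Exalcom A B M ≃ T¹(P, M)`.
-/

noncomputable section

universe u

open TensorProduct

namespace CotTLib

variable {A B M : Type u} [CommRing A] [CommRing B] [Algebra A B] [AddCommGroup M] [Module B M]
variable {ι σ : Type u} (P : Algebra.Presentation A B ι σ)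

/-- A lift of `R → B` to the middle ring of an extension. -/
def IsLift (X : Exal.Ext A B M) (α : P.toExtension.Ring →ₐ[A] X.E) : Prop :=
  ∀ r, X.proj (α r) = algebraMap P.toExtension.Ring B r

variable {P}

lemma exists_lift (X : Exal.Ext A B M) : ∃ α, IsLift P X α := by
  choose s hs using fun i => X.isExtension.proj_surjective (P.val i)
  refine ⟨(MvPolynomial.aeval s : MvPolynomial ι A →ₐ[A] X.E), fun r => ?_⟩
  have h : X.proj.comp (MvPolynomial.aeval s : MvPolynomial ι A →ₐ[A] X.E) = MvPolynomial.aeval P.val :=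
    MvPolynomial.algHom_ext fun i => by simp [hs]
  exact (AlgHom.congr_fun h r).trans (P.algebraMap_apply r).symm

lemma incl_smul (X : Exal.Ext A B M) {α} (hα : IsLift P X α) (r : P.toExtension.Ring) (z : M) :
    α r * X.incl z = X.incl (algebraMap P.toExtension.Ring B r • z) := by
  rw [X.isExtension.mul_incl, hα r]

/-- The cocycle of an extension and a lift. -/
def IsCocycleOf (X : Exal.Ext A B M) (α : P.toExtension.Ring →ₐ[A] X.E) (φ : CotT.cocycles1 P M) : Prop :=
  ∀ f, X.incl ((φ : CotT.L1 P →ₗ[B] M) (mk1 P f)) = α (CotT.jmap P f)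

lemma exists_cocycle (X : Exal.Ext A B M) {α} (hα : IsLift P X α) : ∃ φ, IsCocycleOf X α φ := by
  have hk : ∀ s, X.proj (α (CotT.rel P s)) = 0 := fun s => (hα _).trans (CotT.algebraMap_rel P s)
  let φ : CotT.L1 P →ₗ[B] M :=
    (CotT.L1basis P).constr B fun s => X.kerLift (α (CotT.rel P s)) (hk s)
  have key : ∀ f, X.incl (φ (mk1 P f)) = α (CotT.jmap P f) := by
    intro f
    induction f using Finsupp.induction_linear with
    | zero => rw [map_zero, map_zero, map_zero, map_zero, map_zero]
    | add a b ha hb => rw [map_add, map_add, map_add, map_add, map_add, ha, hb]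
    | single s r =>
      rw [mk1_single, map_smul, Module.Basis.constr_basis, ← incl_smul X hα, Exal.Ext.incl_kerLift,
        CotT.jmap_single, map_mul]
  refine ⟨⟨φ, LinearMap.mem_ker.mpr (L2_ext fun q => X.isExtension.incl_injective ?_)⟩, key⟩
  rw [CotT.d2Star_apply, LinearMap.comp_apply, d2_mk2, key, LinearMap.zero_apply,
    show CotT.jmap P (q : CotT.relMod P) = 0 from q.2, map_zero, map_zero]

/-- The difference of two lifts is a derivation. -/
lemma exists_derivation (X : Exal.Ext A B M) {α β} (hα : IsLift P X α) (hβ : IsLift P X β) :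
    ∃ ψ : CotT.L0 P →ₗ[B] M, ∀ r, X.incl (ψ (dR P r)) = α r - β r := by
  have hk : ∀ r, X.proj (α r - β r) = 0 := fun r => by rw [map_sub, hα, hβ, sub_self]
  let ψ : CotT.L0 P →ₗ[B] M :=
    P.cotangentSpaceBasis.constr B fun i => X.kerLift _ (hk (MvPolynomial.X i))
  refine ⟨ψ, fun r => ?_⟩
  have key : ∀ p : MvPolynomial ι A, X.incl (ψ (dR P (p : P.toExtension.Ring))) =
      α (p : P.toExtension.Ring) - β (p : P.toExtension.Ring) := by
    intro p
    induction p using MvPolynomial.induction_on with
    | C a =>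
      rw [show dR P (MvPolynomial.C a : P.toExtension.Ring) = 0 from dR_algebraMap P a, map_zero, map_zero]
      exact (sub_eq_zero.mpr ((α.commutes a).trans (β.commutes a).symm)).symm
    | add p q hp hq =>
      refine (congrArg (fun z => X.incl (ψ z)) (dR_add P p q)).trans ?_
      refine Eq.trans ?_ (congrArg₂ (· - ·) (map_add α p q) (map_add β p q)).symm
      rw [map_add, map_add, hp, hq]
      exact (add_sub_add_comm _ _ _ _).symm
    | mul_X p i hp =>
      refine (congrArg (fun z => X.incl (ψ z)) (dR_mul P p (MvPolynomial.X i))).trans ?_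
      refine Eq.trans ?_ (congrArg₂ (· - ·) (map_mul α p (MvPolynomial.X i)) (map_mul β p (MvPolynomial.X i))).symm
      rw [map_add, map_smul, map_smul, map_add, ← incl_smul X hα, ← incl_smul X hβ, hp,
        show X.incl (ψ (dR P (MvPolynomial.X i))) = α (MvPolynomial.X i) - β (MvPolynomial.X i) by
          rw [← cotangentSpaceBasis_eq_dR, Module.Basis.constr_basis, Exal.Ext.incl_kerLift]]
      generalize (α : P.toExtension.Ring → X.E) p = a, (β : P.toExtension.Ring → X.E) p = b,
        α (MvPolynomial.X i) = c, β (MvPolynomial.X i) = d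
      ring
  exact key r

variable (P) in
/-- The class of an extension in `T¹`. -/
def IsClassOf (X : Exal.Ext A B M) (x : CotT.T1 P M) : Prop :=
  ∃ α φ, IsLift P X α ∧ IsCocycleOf X α φ ∧ Submodule.Quotient.mk φ = x

lemma exists_class (X : Exal.Ext A B M) : ∃ x, IsClassOf P X x := by
  obtain ⟨α, hα⟩ := exists_lift (P := P) X
  obtain ⟨φ, hφ⟩ := exists_cocycle X hα
  exact ⟨_, α, φ, hα, hφ, rfl⟩

lemma class_unique {X : Exal.Ext A B M} {x y : CotT.T1 P M} (hx : IsClassOf P X x) (hy : IsClassOf P X y) :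
    x = y := by
  obtain ⟨α, φ, hα, hφ, rfl⟩ := hx
  obtain ⟨β, φ', hβ, hφ', rfl⟩ := hy
  obtain ⟨ψ, hψ⟩ := exists_derivation X hα hβ
  refine (Submodule.Quotient.eq _).mpr (LinearMap.mem_range.mpr ⟨ψ, L1_ext fun f => X.isExtension.incl_injective ?_⟩)
  rw [CotT.d1Star_apply, LinearMap.comp_apply, d1_mk1, hψ, Submodule.subtype_apply, Submodule.coe_sub,
    LinearMap.sub_apply, map_sub, hφ, hφ']

lemma class_of_equiv {X Y : Exal.Ext A B M} (e : X.Equiv Y) {x : CotT.T1 P M} (hx : IsClassOf P X x) :
    IsClassOf P Y x := by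
  obtain ⟨α, φ, hα, hφ, rfl⟩ := hx
  refine ⟨e.toAlgEquiv.toAlgHom.comp α, φ, fun r => (e.proj_apply _).trans (hα r), fun f => ?_, rfl⟩
  exact (e.apply_incl _).symm.trans (congrArg e.toAlgEquiv (hφ f))

lemma class_trivial : IsClassOf P (Exal.Ext.trivial A B M) 0 := by
  let a : P.toExtension.Ring →ₐ[A] (Exal.Ext.trivial A B M).E :=
    { toFun := fun r => (TrivSqZeroExt.inl (algebraMap P.toExtension.Ring B r) : TrivSqZeroExt B M)
      map_one' := by rw [map_one]; exact TrivSqZeroExt.inl_one M
      map_mul' := fun r s => by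
        letI := Exal.opModule B M
        haveI := Exal.isCentralScalar_opModule B M
        rw [map_mul]; exact TrivSqZeroExt.inl_mul M _ _
      map_zero' := by rw [map_zero]; exact TrivSqZeroExt.inl_zero M
      map_add' := fun r s => by rw [map_add]; exact TrivSqZeroExt.inl_add M _ _
      commutes' := fun c => by
        change TrivSqZeroExt.inl (algebraMap P.toExtension.Ring B (algebraMap A P.toExtension.Ring c)) = _
        rw [← IsScalarTower.algebraMap_apply]
        rfl }
  refine ⟨a, 0, fun r => rfl, fun f => ?_, rfl⟩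
  rw [Submodule.coe_zero, LinearMap.zero_apply, map_zero]
  change _ = (TrivSqZeroExt.inl (algebraMap P.toExtension.Ring B (CotT.jmap P f)) : TrivSqZeroExt B M)
  rw [CotT.algebraMap_jmap]
  exact (TrivSqZeroExt.inl_zero M).symm

/-- Extensions with cohomologous cocycles are equivalent. -/
lemma equiv_of_class {X Y : Exal.Ext A B M} {x : CotT.T1 P M} (hx : IsClassOf P X x) (hy : IsClassOf P Y x) :
    Nonempty (X.Equiv Y) := by
  obtain ⟨α, φ, hα, hφ, rfl⟩ := hx
  obtain ⟨β, φ', hβ, hφ', hcl⟩ := hy
  have hmem : φ - φ' ∈ CotT.coboundaries1 P M := (Submodule.Quotient.eq _).mp hcl.symm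
  obtain ⟨ψ, hψ⟩ : ∃ ψ, CotT.d1Star P M ψ = Submodule.subtype _ (φ - φ') := hmem
  -- correct `β` so that the cocycles agree
  obtain ⟨β', hβ', hββ'⟩ : ∃ β', IsLift P Y β' ∧ ∀ f, Y.incl ((φ : CotT.L1 P →ₗ[B] M) (mk1 P f)) = β' (CotT.jmap P f) := by
    let s : ι → Y.E := fun i => β (MvPolynomial.X i) + Y.incl (ψ (P.cotangentSpaceBasis i))
    have hβ' : IsLift P Y (MvPolynomial.aeval s : MvPolynomial ι A →ₐ[A] Y.E) := by
      intro r
      have h : Y.proj.comp (MvPolynomial.aeval s : MvPolynomial ι A →ₐ[A] Y.E) = MvPolynomial.aeval P.val :=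
        MvPolynomial.algHom_ext fun i => by
          rw [AlgHom.comp_apply, MvPolynomial.aeval_X, MvPolynomial.aeval_X, map_add, hβ,
            (Y.isExtension.exact _).mpr ⟨_, rfl⟩, add_zero]
          exact (P.algebraMap_apply _).trans (MvPolynomial.aeval_X _ _)
      exact (AlgHom.congr_fun h r).trans (P.algebraMap_apply r).symm
    refine ⟨_, hβ', fun f => ?_⟩
    obtain ⟨ψ', hψ'⟩ := exists_derivation Y hβ' hβ
    have he : ψ' = ψ := P.cotangentSpaceBasis.ext fun i => Y.isExtension.incl_injective (by
      rw [cotangentSpaceBasis_eq_dR, hψ', ← cotangentSpaceBasis_eq_dR]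
      refine (congrArg (· - β (MvPolynomial.X i)) (MvPolynomial.aeval_X s i)).trans ?_
      exact add_sub_cancel_left _ _)
    have h1 := LinearMap.congr_fun hψ (mk1 P f)
    rw [CotT.d1Star_apply, LinearMap.comp_apply, d1_mk1, Submodule.subtype_apply, Submodule.coe_sub,
      LinearMap.sub_apply] at h1
    have h2 := hψ' (CotT.jmap P f)
    rw [he, h1, map_sub, hφ'] at h2
    exact sub_left_inj.mp h2
  have hsurj : ∀ e : X.E, ∃ rz : P.toExtension.Ring × M, α rz.1 + X.incl rz.2 = e := by
    intro e
    obtain ⟨r, hr⟩ := surjective_algebraMap P (X.proj e)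
    obtain ⟨z, hz⟩ := (X.isExtension.exact (e - α r)).mp (by rw [map_sub, hα, hr, sub_self])
    exact ⟨(r, z), by rw [hz, add_sub_cancel]⟩
  choose g hg using hsurj
  have hwd : ∀ r z e, α r + X.incl z = e → β' (g e).1 + Y.incl (g e).2 = β' r + Y.incl z := by
    intro r z e he
    have h1 := (hg e).trans he.symm
    generalize g e = w at h1 ⊢
    obtain ⟨r₁, z₁⟩ := w
    dsimp only at h1 ⊢
    have hr : algebraMap P.toExtension.Ring B (r₁ - r) = 0 := by
      have h2 := congrArg X.proj h1
      rw [map_add, map_add, hα, hα, (X.isExtension.exact _).mpr ⟨_, rfl⟩, (X.isExtension.exact _).mpr ⟨_, rfl⟩,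
        add_zero, add_zero] at h2
      rw [map_sub, h2, sub_self]
    obtain ⟨f, hf⟩ : ∃ f, CotT.jmap P f = r₁ - r := by
      have hmem : r₁ - r ∈ LinearMap.range (CotT.jmap P) := by rw [CotT.range_jmap]; exact hr
      exact hmem
    have h3 : X.incl ((φ : CotT.L1 P →ₗ[B] M) (mk1 P f)) = X.incl (z - z₁) := by
      rw [hφ, hf, map_sub, map_sub]
      linear_combination h1
    have h4 := hββ' f
    rw [X.isExtension.incl_injective h3, hf, map_sub, map_sub] at h4
    linear_combination -h4
  let γ : X.E → Y.E := fun e => β' (g e).1 + Y.incl (g e).2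
  have hγ : ∀ r z, γ (α r + X.incl z) = β' r + Y.incl z := fun r z => hwd r z _ rfl
  have hincl : ∀ z z' : M, X.incl z * X.incl z' = 0 := fun z z' => by
    rw [X.isExtension.mul_incl, (X.isExtension.exact _).mpr ⟨_, rfl⟩, zero_smul, map_zero]
  have hincl' : ∀ z z' : M, Y.incl z * Y.incl z' = 0 := fun z z' => by
    rw [Y.isExtension.mul_incl, (Y.isExtension.exact _).mpr ⟨_, rfl⟩, zero_smul, map_zero]
  let Γ : X.E →ₐ[A] Y.E :=
    { toFun := γ
      map_one' := by
        have := hγ 1 0
        simpa using this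
      map_zero' := by
        have := hγ 0 0
        simpa using this
      map_mul' := fun e e' => by
        obtain ⟨r, z, rfl⟩ : ∃ r z, α r + X.incl z = e := ⟨_, _, hg e⟩
        obtain ⟨r', z', rfl⟩ : ∃ r z, α r + X.incl z = e' := ⟨_, _, hg e'⟩
        have : (α r + X.incl z) * (α r' + X.incl z') =
            α (r * r') + X.incl (algebraMap P.toExtension.Ring B r • z' + algebraMap P.toExtension.Ring B r' • z) := by
          rw [map_add, ← incl_smul X hα, ← incl_smul X hα, map_mul]
          linear_combination hincl z z'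
        rw [this, hγ, hγ, hγ, map_mul, map_add, ← incl_smul Y hβ', ← incl_smul Y hβ']
        linear_combination -(hincl' z z')
      map_add' := fun e e' => by
        obtain ⟨r, z, rfl⟩ : ∃ r z, α r + X.incl z = e := ⟨_, _, hg e⟩
        obtain ⟨r', z', rfl⟩ : ∃ r z, α r + X.incl z = e' := ⟨_, _, hg e'⟩
        rw [show α r + X.incl z + (α r' + X.incl z') = α (r + r') + X.incl (z + z') by
          rw [map_add, map_add]; abel, hγ, hγ, hγ, map_add, map_add]
        abel
      commutes' := fun a => by
        have h := hγ (algebraMap A P.toExtension.Ring a) 0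
        rwa [map_zero, map_zero, add_zero, add_zero, α.commutes, β'.commutes] at h }
  have hbij : Function.Bijective Γ := by
    constructor
    · rw [injective_iff_map_eq_zero]
      intro e he
      obtain ⟨r, z, rfl⟩ : ∃ r z, α r + X.incl z = e := ⟨_, _, hg e⟩
      have he' : β' r + Y.incl z = 0 := (hγ r z).symm.trans he
      have hr : algebraMap P.toExtension.Ring B r = 0 := by
        have := congrArg Y.proj he'
        rwa [map_add, hβ', (Y.isExtension.exact _).mpr ⟨_, rfl⟩, add_zero, map_zero] at this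
      obtain ⟨f, rfl⟩ : ∃ f, CotT.jmap P f = r := by
        have hmem : r ∈ LinearMap.range (CotT.jmap P) := by rw [CotT.range_jmap]; exact hr
        exact hmem
      rw [← hββ', ← map_add] at he'
      rw [← hφ, ← map_add, Y.isExtension.incl_injective (he'.trans (map_zero _).symm), map_zero]
    · intro e
      obtain ⟨r, hr⟩ := surjective_algebraMap P (Y.proj e)
      obtain ⟨z, hz⟩ := (Y.isExtension.exact (e - β' r)).mp (by rw [map_sub, hβ', hr, sub_self])
      exact ⟨α r + X.incl z, (hγ r z).trans (by rw [hz, add_sub_cancel])⟩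
  refine ⟨⟨AlgEquiv.ofBijective Γ hbij, fun e => ?_, fun z => ?_⟩⟩
  · obtain ⟨r, w, rfl⟩ : ∃ r z, α r + X.incl z = e := ⟨_, _, hg e⟩
    change Y.proj (γ (α r + X.incl w)) = _
    rw [hγ, map_add, map_add, hα, hβ', (X.isExtension.exact _).mpr ⟨_, rfl⟩, (Y.isExtension.exact _).mpr ⟨_, rfl⟩]
  · change γ (X.incl z) = Y.incl z
    have := hγ 0 z
    rwa [map_zero, map_zero, zero_add, zero_add] at this

attribute [local instance] Exal.opModule Exal.isCentralScalar_opModule in
/-- Every cocycle comes from an extension. -/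
lemma exists_ext (φ : CotT.cocycles1 P M) : ∃ X : Exal.Ext A B M, IsClassOf P X (Submodule.Quotient.mk φ) := by
  letI : Module P.toExtension.Ring M := Module.compHom M (algebraMap P.toExtension.Ring B)
  letI : Module A M := Module.compHom M (algebraMap A B)
  haveI : IsScalarTower A P.toExtension.Ring M := ⟨fun a r z => by
    change algebraMap P.toExtension.Ring B (a • r) • z = algebraMap A B a • (algebraMap P.toExtension.Ring B r • z)
    rw [Algebra.smul_def, map_mul, ← IsScalarTower.algebraMap_apply, mul_smul]⟩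
  let T := TrivSqZeroExt P.toExtension.Ring M
  let J : Ideal T :=
    { carrier := {x | ∃ f, x.fst = CotT.jmap P f ∧ x.snd = - (φ : CotT.L1 P →ₗ[B] M) (mk1 P f)}
      zero_mem' := ⟨0, by simp, by simp⟩
      add_mem' := by
        rintro x y ⟨f, h1, h2⟩ ⟨g, h3, h4⟩
        exact ⟨f + g, by rw [TrivSqZeroExt.fst_add, h1, h3, map_add],
          by rw [TrivSqZeroExt.snd_add, h2, h4, map_add, map_add, neg_add]⟩
      smul_mem' := by
        rintro c x ⟨f, h1, h2⟩
        refine ⟨c.fst • f, ?_, ?_⟩
        · rw [smul_eq_mul, TrivSqZeroExt.fst_mul, h1, map_smul, smul_eq_mul]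
        · rw [smul_eq_mul, TrivSqZeroExt.snd_mul, h1, h2, op_smul_eq_smul,
            LinearMap.map_smulₛₗ (mk1 P), LinearMap.map_smul]
          change algebraMap P.toExtension.Ring B c.fst • (-(φ : CotT.L1 P →ₗ[B] M) (mk1 P f))
            + algebraMap P.toExtension.Ring B (CotT.jmap P f) • c.snd = _
          rw [CotT.algebraMap_jmap, zero_smul, add_zero, smul_neg] }
  let χ : T →ₐ[A] B := (IsScalarTower.toAlgHom A P.toExtension.Ring B).comp (TrivSqZeroExt.fstHom A P.toExtension.Ring M)
  have hJ : ∀ x ∈ J, χ x = 0 := by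
    rintro x ⟨f, h1, -⟩
    change algebraMap P.toExtension.Ring B x.fst = 0
    rw [h1, CotT.algebraMap_jmap]
  let proj : T ⧸ J →ₐ[A] B := Ideal.Quotient.liftₐ J χ hJ
  have hproj : ∀ x : T, proj (Ideal.Quotient.mk J x) = algebraMap P.toExtension.Ring B x.fst := fun x => rfl
  let incl : M →+ T ⧸ J :=
    (Ideal.Quotient.mk J).toAddMonoidHom.comp (TrivSqZeroExt.inrHom P.toExtension.Ring M).toAddMonoidHom
  have hincl : ∀ z, incl z = Ideal.Quotient.mk J (TrivSqZeroExt.inr z) := fun z => rfl
  have hcoc : ∀ f, CotT.jmap P f = 0 → (φ : CotT.L1 P →ₗ[B] M) (mk1 P f) = 0 := fun f hf => by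
    rw [← d2_mk2 P ⟨f, hf⟩]
    exact LinearMap.congr_fun (show CotT.d2Star P M (φ : CotT.L1 P →ₗ[B] M) = 0 from φ.2) _
  let X : Exal.Ext A B M :=
    { E := T ⧸ J
      proj := proj
      incl := incl
      isExtension :=
        { proj_surjective := fun b => by
            obtain ⟨r, rfl⟩ := surjective_algebraMap P b
            exact ⟨Ideal.Quotient.mk J (TrivSqZeroExt.inl r), by rw [hproj, TrivSqZeroExt.fst_inl]⟩
          incl_injective := by
            rw [injective_iff_map_eq_zero]
            intro z hz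
            rw [hincl, Ideal.Quotient.eq_zero_iff_mem] at hz
            obtain ⟨f, h1, h2⟩ := hz
            rw [TrivSqZeroExt.fst_inr] at h1
            rw [TrivSqZeroExt.snd_inr, hcoc f h1.symm, neg_zero] at h2
            exact h2
          exact := fun x => by
            obtain ⟨x, rfl⟩ := Ideal.Quotient.mk_surjective x
            constructor
            · intro hx
              rw [hproj] at hx
              obtain ⟨f, hf⟩ : ∃ f, CotT.jmap P f = x.fst := by
                have hmem : x.fst ∈ LinearMap.range (CotT.jmap P) := by rw [CotT.range_jmap]; exact hx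
                exact hmem
              refine ⟨x.snd + (φ : CotT.L1 P →ₗ[B] M) (mk1 P f), ?_⟩
              rw [hincl, Ideal.Quotient.eq]
              refine ⟨-f, ?_, ?_⟩
              · rw [TrivSqZeroExt.fst_sub, TrivSqZeroExt.fst_inr, map_neg, hf, zero_sub]
              · rw [TrivSqZeroExt.snd_sub, TrivSqZeroExt.snd_inr, map_neg, map_neg, neg_neg]
                abel
            · rintro ⟨z, hz⟩
              rw [← hz, hincl, hproj, TrivSqZeroExt.fst_inr, map_zero]
          mul_incl := fun x z => by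
            obtain ⟨x, rfl⟩ := Ideal.Quotient.mk_surjective x
            rw [hincl, hincl, ← map_mul]
            refine congrArg (Ideal.Quotient.mk J) (TrivSqZeroExt.ext ?_ ?_)
            · rw [TrivSqZeroExt.fst_mul, TrivSqZeroExt.fst_inr, mul_zero, TrivSqZeroExt.fst_inr]
            · rw [TrivSqZeroExt.snd_mul, TrivSqZeroExt.fst_inr, op_smul_eq_smul, zero_smul, add_zero,
                TrivSqZeroExt.snd_inr, TrivSqZeroExt.snd_inr, hproj]
              rfl } }
  let α : P.toExtension.Ring →ₐ[A] X.E :=
    (Ideal.Quotient.mkₐ A J).comp (TrivSqZeroExt.inlAlgHom A P.toExtension.Ring M)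
  refine ⟨X, α, φ, fun r => ?_, fun f => ?_, rfl⟩
  · change proj (Ideal.Quotient.mk J (TrivSqZeroExt.inl r)) = _
    rw [hproj, TrivSqZeroExt.fst_inl]
  · change Ideal.Quotient.mk J (TrivSqZeroExt.inr ((φ : CotT.L1 P →ₗ[B] M) (mk1 P f))) =
      Ideal.Quotient.mk J (TrivSqZeroExt.inl (CotT.jmap P f))
    rw [Ideal.Quotient.eq]
    refine ⟨-f, ?_, ?_⟩
    · rw [TrivSqZeroExt.fst_sub, TrivSqZeroExt.fst_inr, TrivSqZeroExt.fst_inl, map_neg, zero_sub]
    · rw [TrivSqZeroExt.snd_sub, TrivSqZeroExt.snd_inr, TrivSqZeroExt.snd_inl, sub_zero, map_neg, map_neg, neg_neg]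

variable (P M) in
/-- `Exalcom A B M ≃ T¹(P, M)`, zero to zero. -/
theorem exists_equiv_exalcom : ∃ e : Exal.Exalcom A B M ≃ CotT.T1 P M, e 0 = 0 := by
  choose cls hcls using fun X : Exal.Ext A B M => exists_class (P := P) X
  let F : Exal.Exalcom A B M → CotT.T1 P M :=
    Quotient.lift cls fun X Y ⟨e⟩ => class_unique (class_of_equiv e (hcls X)) (hcls Y)
  have hbij : Function.Bijective F := by
    constructor
    · intro x y h
      induction x using Quotient.ind with | _ X => ?_
      induction y using Quotient.ind with | _ Y => ?_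
      change cls X = cls Y at h
      exact Quotient.sound (equiv_of_class (hcls X) (h ▸ hcls Y))
    · intro x
      obtain ⟨φ, rfl⟩ := Submodule.Quotient.mk_surjective _ x
      obtain ⟨X, hX⟩ := exists_ext φ
      exact ⟨X.cl, class_unique (hcls X) hX⟩
  exact ⟨Equiv.ofBijective F hbij, class_unique (hcls _) class_trivial⟩

end CotTLib

end
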