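import Groth.Agent.CotTLib.Basic

/-!
# Independence of the maps on `T⁰, T¹, T²` of the choice of a morphism of presentations

Two morphisms of presentations over one square give the same `T0pull`, `T1pull`, `T2pull`.
-/

noncomputable section

open TensorProduct

namespace CotTLib

/-! ## An auxiliary ring: pairs `(a, g)` standing for the pair of elements `a`, `a - j g` -/

structure TwistedSum {R G : Type*} [CommRing R] [AddCommGroup G] [Module R G] (j : G →ₗ[R] R) where
  val : R
  diff : G

namespace TwistedSum

variable {R G : Type*} [CommRing R] [AddCommGroup G] [Module R G] {j : G →ₗ[R] R}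

/-- the multiplication data -/
def mul' (x y : TwistedSum j) : TwistedSum j :=
  ⟨x.val * y.val, x.val • y.diff + y.val • x.diff - j y.diff • x.diff⟩

@[ext] lemma ext' {x y : TwistedSum j} (h₁ : x.val = y.val) (h₂ : x.diff = y.diff) : x = y := by
  cases x; cases y; simp_all

variable (hj : ∀ g g' : G, j g • g' = j g' • g)

/-- The ring structure. -/
@[reducible] def commRing : CommRing (TwistedSum j) where
  add x y := ⟨x.val + y.val, x.diff + y.diff⟩
  zero := ⟨0, 0⟩
  one := ⟨1, 0⟩
  neg x := ⟨-x.val, -x.diff⟩
  mul := mul'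
  nsmul n x := ⟨n • x.val, n • x.diff⟩
  nsmul_zero x := ext' (zero_smul ℕ _) (zero_smul ℕ _)
  nsmul_succ n x := ext' (succ_nsmul _ _) (succ_nsmul _ _)
  zsmul n x := ⟨n • x.val, n • x.diff⟩
  zsmul_zero' x := ext' (zero_smul ℤ _) (zero_smul ℤ _)
  zsmul_succ' n x := ext' (SubNegMonoid.zsmul_succ' n _) (SubNegMonoid.zsmul_succ' n _)
  zsmul_neg' n x := ext' (SubNegMonoid.zsmul_neg' n _) (SubNegMonoid.zsmul_neg' n _)
  add_assoc x y z := ext' (add_assoc _ _ _) (add_assoc _ _ _)
  zero_add x := ext' (zero_add _) (zero_add _)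
  add_zero x := ext' (add_zero _) (add_zero _)
  add_comm x y := ext' (add_comm _ _) (add_comm _ _)
  neg_add_cancel x := ext' (neg_add_cancel _) (neg_add_cancel _)
  mul_comm x y := ext' (mul_comm _ _) (by
    change x.val • y.diff + y.val • x.diff - j y.diff • x.diff
      = y.val • x.diff + x.val • y.diff - j x.diff • y.diff
    rw [hj x.diff y.diff]; abel)
  one_mul x := ext' (one_mul _) (by
    change (1 : R) • x.diff + x.val • (0 : G) - j x.diff • (0 : G) = x.diff
    simp)
  mul_one x := ext' (mul_one _) (by
    change x.val • (0 : G) + (1 : R) • x.diff - j (0 : G) • x.diff = x.diff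
    simp)
  zero_mul x := ext' (zero_mul _) (by
    change (0 : R) • x.diff + x.val • (0 : G) - j x.diff • (0 : G) = 0
    simp)
  mul_zero x := ext' (mul_zero _) (by
    change x.val • (0 : G) + (0 : R) • x.diff - j (0 : G) • x.diff = 0
    simp)
  mul_assoc x y z := ext' (mul_assoc _ _ _) (by
    change (x.val * y.val) • z.diff + z.val • (x.val • y.diff + y.val • x.diff - j y.diff • x.diff)
        - j z.diff • (x.val • y.diff + y.val • x.diff - j y.diff • x.diff)
      = x.val • (y.val • z.diff + z.val • y.diff - j z.diff • y.diff) + (y.val * z.val) • x.diff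
        - j (y.val • z.diff + z.val • y.diff - j z.diff • y.diff) • x.diff
    simp only [map_sub, map_add, map_smul, smul_eq_mul]
    module)
  left_distrib x y z := ext' (mul_add _ _ _) (by
    change x.val • (y.diff + z.diff) + (y.val + z.val) • x.diff - j (y.diff + z.diff) • x.diff
      = (x.val • y.diff + y.val • x.diff - j y.diff • x.diff)
        + (x.val • z.diff + z.val • x.diff - j z.diff • x.diff)
    simp only [map_add]
    module)
  right_distrib x y z := ext' (add_mul _ _ _) (by
    change (x.val + y.val) • z.diff + z.val • (x.diff + y.diff) - j z.diff • (x.diff + y.diff)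
      = (x.val • z.diff + z.val • x.diff - j z.diff • x.diff)
        + (y.val • z.diff + z.val • y.diff - j z.diff • y.diff)
    module)

end TwistedSum

/-- For a polynomial ring `A[x_i]`, two ring maps `h, h'` to `R` agreeing on `A` whose differences on the
variables lift to `G`, there is a lift `δ` of `h - h'` to `G` with `δ (r s) = h r • δ s + h' s • δ r`. -/
lemma exists_twisted_derivation {A ι R G : Type*} [CommRing A] [CommRing R] [AddCommGroup G] [Module R G]
    (j : G →ₗ[R] R) (hj : ∀ g g' : G, j g • g' = j g' • g)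
    (h h' : MvPolynomial ι A →+* R) (hC : ∀ a, h (MvPolynomial.C a) = h' (MvPolynomial.C a))
    (g : ι → G) (hg : ∀ i, j (g i) = h (MvPolynomial.X i) - h' (MvPolynomial.X i)) :
    ∃ δ : MvPolynomial ι A →+ G, (∀ p, j (δ p) = h p - h' p) ∧
      (∀ p q, δ (p * q) = h p • δ q + h' q • δ p) ∧
      (∀ a, δ (MvPolynomial.C a) = 0) ∧ (∀ i, δ (MvPolynomial.X i) = g i) := by
  letI := TwistedSum.commRing hj
  let c : A →+* TwistedSum j :=
    { toFun := fun a => ⟨h (MvPolynomial.C a), 0⟩
      map_one' := TwistedSum.ext' (by rw [map_one, map_one]; rfl) rfl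
      map_zero' := TwistedSum.ext' (by rw [map_zero, map_zero]; rfl) rfl
      map_add' := fun a b => TwistedSum.ext' (by rw [map_add, map_add]; rfl) (add_zero (0 : G)).symm
      map_mul' := fun a b => TwistedSum.ext' (by rw [map_mul, map_mul]; rfl) (by
        change (0 : G) = h (MvPolynomial.C a) • (0 : G) + h (MvPolynomial.C b) • (0 : G) - j 0 • (0 : G)
        simp) }
  let H : MvPolynomial ι A →+* TwistedSum j :=
    MvPolynomial.eval₂Hom c fun i => ⟨h (MvPolynomial.X i), g i⟩
  let fst : TwistedSum j →+* R :=
    { toFun := fun x => x.val, map_one' := rfl, map_zero' := rfl,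
      map_add' := fun _ _ => rfl, map_mul' := fun _ _ => rfl }
  let snd : TwistedSum j →+* R :=
    { toFun := fun x => x.val - j x.diff
      map_one' := by change (1 : R) - j 0 = 1; simp
      map_zero' := by change (0 : R) - j 0 = 0; simp
      map_add' := fun x y => by
        change x.val + y.val - j (x.diff + y.diff) = _
        rw [map_add]; ring
      map_mul' := fun x y => by
        change x.val * y.val - j (x.val • y.diff + y.val • x.diff - j y.diff • x.diff) = _
        simp only [map_sub, map_add, map_smul, smul_eq_mul]; ring }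
  have h1 : fst.comp H = h := MvPolynomial.ringHom_ext
    (fun a => by
      rw [RingHom.comp_apply, show H (MvPolynomial.C a) = c a from MvPolynomial.eval₂Hom_C _ _ _]
      rfl)
    (fun i => by
      rw [RingHom.comp_apply, show H (MvPolynomial.X i) = ⟨h (MvPolynomial.X i), g i⟩ from
        MvPolynomial.eval₂Hom_X' _ _ _]
      rfl)
  have h2 : snd.comp H = h' := MvPolynomial.ringHom_ext
    (fun a => by
      rw [RingHom.comp_apply, show H (MvPolynomial.C a) = c a from MvPolynomial.eval₂Hom_C _ _ _]
      change h (MvPolynomial.C a) - j 0 = _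
      rw [map_zero, sub_zero, hC])
    (fun i => by
      rw [RingHom.comp_apply, show H (MvPolynomial.X i) = ⟨h (MvPolynomial.X i), g i⟩ from
        MvPolynomial.eval₂Hom_X' _ _ _]
      change h (MvPolynomial.X i) - j (g i) = _
      rw [hg]; ring)
  have hv : ∀ p, (H p).val = h p := fun p => RingHom.congr_fun h1 p
  have hd : ∀ p, (H p).val - j (H p).diff = h' p := fun p => RingHom.congr_fun h2 p
  refine ⟨{ toFun := fun p => (H p).diff
            map_zero' := by rw [map_zero]; rfl
            map_add' := fun p q => by rw [map_add]; rfl }, ?_, ?_, ?_, ?_⟩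
  · intro p
    change j (H p).diff = _
    rw [← hd p, ← hv p]; ring
  · intro p q
    change (H (p * q)).diff = _
    rw [map_mul, ← hv p, ← hd q]
    change (H p).val • (H q).diff + (H q).val • (H p).diff - j (H q).diff • (H p).diff
      = (H p).val • (H q).diff + ((H q).val - j (H q).diff) • (H p).diff
    module
  · intro a
    change (H (MvPolynomial.C a)).diff = 0
    rw [show H (MvPolynomial.C a) = c a from MvPolynomial.eval₂Hom_C _ _ _]
    rfl
  · intro i
    change (H (MvPolynomial.X i)).diff = g i
    rw [show H (MvPolynomial.X i) = ⟨h (MvPolynomial.X i), g i⟩ from MvPolynomial.eval₂Hom_X' _ _ _]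

/-! ## The homotopy -/

section

variable {A B ι σ A' B' ι' σ' : Type*}
variable [CommRing A] [CommRing B] [Algebra A B] [CommRing A'] [CommRing B'] [Algebra A' B']
variable [Algebra A A'] [Algebra B B'] [Algebra A B'] [IsScalarTower A A' B'] [IsScalarTower A B B']
variable {P : Algebra.Presentation A B ι σ} {P' : Algebra.Presentation A' B' ι' σ'}
variable (h h' : CotT.PresHom P P')

lemma jmap_surj_of_mem_ker {r : P'.toExtension.Ring}
    (hr : algebraMap P'.toExtension.Ring B' r = 0) : ∃ f, CotT.jmap P' f = r := by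
  have hmem : r ∈ LinearMap.range (CotT.jmap P') := by
    rw [CotT.range_jmap]
    exact hr
  exact hmem

lemma jmap_comm (a b : CotT.relMod P') :
    CotT.jmap P' a • b - CotT.jmap P' b • a ∈ CotT.trivRel P' :=
  Submodule.subset_span ⟨a, b, rfl⟩

lemma jmap_trivRel {y : CotT.relMod P'} (hy : y ∈ CotT.trivRel P') : CotT.jmap P' y = 0 :=
  CotT.trivRel_le_relKer P' hy

/-- The data of a homotopy between two morphisms of presentations, modulo trivial relations. -/
lemma exists_homotopy :
    ∃ (δ : P.toExtension.Ring → CotT.relMod P') (η : σ → CotT.relKer P'),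
      (∀ r, CotT.jmap P' (δ r) = h.ringHom r - h'.ringHom r) ∧
      (∀ r s, δ (r + s) - (δ r + δ s) ∈ CotT.trivRel P') ∧
      (∀ r s, δ (r * s) - (h.ringHom r • δ s + h'.ringHom s • δ r) ∈ CotT.trivRel P') ∧
      (∀ a, δ (algebraMap A P.toExtension.Ring a) ∈ CotT.trivRel P') ∧
      ∀ f : CotT.relMod P,
        h.relModMap f - h'.relModMap f
          - (Finsupp.linearCombination P'.toExtension.Ring (fun s => (η s : CotT.relMod P'))
              (Finsupp.mapRange h.ringHom (map_zero _) f) + δ (CotT.jmap P f)) ∈ CotT.trivRel P' := by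
  set T : Submodule P'.toExtension.Ring (CotT.relMod P') := CotT.trivRel P' with hT
  let jb : (CotT.relMod P' ⧸ T) →ₗ[P'.toExtension.Ring] P'.toExtension.Ring :=
    T.liftQ (CotT.jmap P') (fun y hy => jmap_trivRel hy)
  have hjb : ∀ g g', jb g • g' = jb g' • g := by
    intro g g'
    obtain ⟨a, rfl⟩ := T.mkQ_surjective g
    obtain ⟨b, rfl⟩ := T.mkQ_surjective g'
    simp only [jb, Submodule.mkQ_apply, Submodule.liftQ_apply, ← Submodule.Quotient.mk_smul]
    exact (Submodule.Quotient.eq _).mpr (jmap_comm a b)
  have hC : ∀ a, h.ringHom (MvPolynomial.C a) = h'.ringHom (MvPolynomial.C a) := fun a => by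
    change h.hom.toAlgHom (MvPolynomial.C a) = h'.hom.toAlgHom (MvPolynomial.C a)
    rw [Algebra.Generators.Hom.toAlgHom_C, Algebra.Generators.Hom.toAlgHom_C]
  have hker : ∀ r, algebraMap P'.toExtension.Ring B' (h.ringHom r - h'.ringHom r) = 0 := fun r => by
    rw [map_sub, h.algebraMap_ringHom, h'.algebraMap_ringHom, sub_self]
  choose g₀ hg₀ using fun i : ι => jmap_surj_of_mem_ker (hker (MvPolynomial.X i))
  obtain ⟨d, hd1, hd2, hd3⟩ : ∃ d : P.toExtension.Ring →+ (CotT.relMod P' ⧸ T),
      (∀ p, jb (d p) = h.ringHom p - h'.ringHom p) ∧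
      (∀ p q, d (p * q) = h.ringHom p • d q + h'.ringHom q • d p) ∧
      ∀ a, d (algebraMap A P.toExtension.Ring a) = 0 := by
    obtain ⟨d, hd1, hd2, hd3, -⟩ := exists_twisted_derivation jb hjb h.ringHom h'.ringHom hC
      (fun i => T.mkQ (g₀ i)) (fun i => hg₀ i)
    exact ⟨d, hd1, hd2, hd3⟩
  let δ : P.toExtension.Ring → CotT.relMod P' := fun r => (d r).out
  have hδ : ∀ r, T.mkQ (δ r) = d r := fun r => Submodule.Quotient.mk_out (d r)
  have hmem : ∀ {x y : CotT.relMod P'}, T.mkQ x = T.mkQ y → x - y ∈ T := fun he =>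
    (Submodule.Quotient.eq T).mp he
  have hjδ : ∀ r, CotT.jmap P' (δ r) = h.ringHom r - h'.ringHom r := fun r => by
    exact (congrArg jb (hδ r)).trans (hd1 r)
  refine ⟨δ, fun s => ⟨h.relVal s - h'.relVal s - δ (CotT.rel P s), ?_⟩, hjδ, ?_, ?_, ?_, ?_⟩
  · change CotT.jmap P' _ = 0
    rw [map_sub, map_sub, h.jmap_relVal, h'.jmap_relVal, hjδ]
    exact sub_self _
  · intro r s
    refine hmem ?_
    rw [map_add, hδ, hδ, hδ]
    exact map_add d r s
  · intro r s
    refine hmem ?_
    rw [map_add, map_smul, map_smul, hδ, hδ, hδ]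
    exact hd2 r s
  · intro a
    have h0 := hmem (x := δ (algebraMap A P.toExtension.Ring a)) (y := 0) (by
      rw [hδ, map_zero]
      exact hd3 a)
    rwa [sub_zero] at h0
  · intro f
    refine hmem ?_
    induction f using Finsupp.induction_linear with
    | zero =>
      simp only [map_zero, sub_zero, Finsupp.mapRange_zero, zero_add, hδ]
    | add f f' hf hf' =>
      have e : T.mkQ (δ (CotT.jmap P (f + f'))) =
          T.mkQ (δ (CotT.jmap P f)) + T.mkQ (δ (CotT.jmap P f')) := by
        simp only [hδ, map_add]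
      simp only [map_add, map_sub, Finsupp.mapRange_add (map_add _)] at hf hf' e ⊢
      rw [e, show T.mkQ (h.relModMap f) + T.mkQ (h.relModMap f') - (T.mkQ (h'.relModMap f) + T.mkQ (h'.relModMap f'))
        = (T.mkQ (h.relModMap f) - T.mkQ (h'.relModMap f)) + (T.mkQ (h.relModMap f') - T.mkQ (h'.relModMap f')) by abel,
        hf, hf']
      abel
    | single s r =>
      simp only [CotT.PresHom.relModMap_single, CotT.jmap_single, Finsupp.mapRange_single,
        Finsupp.linearCombination_single, map_sub, map_add, map_smul, smul_sub, hδ]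
      have h2 := hd2 r (CotT.rel P s)
      rw [h2]
      have hcomm : (h.ringHom r - h'.ringHom r) • T.mkQ (h'.relVal s)
          = h'.ringHom (CotT.rel P s) • d r := by
        rw [← hd1 r, hjb (d r) (T.mkQ (h'.relVal s))]
        congr 1
        exact h'.jmap_relVal s
      rw [← hcomm, sub_smul]
      abel

end

end CotTLib

end
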