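import Groth.Agent.CotTLib.Smooth
import Mathlib.Algebra.MvPolynomial.Equiv
import Mathlib.RingTheory.Polynomial.Basic

/-!
# `T¹` and `T²` of a localization
-/

noncomputable section

open MvPolynomial

namespace CotTLib

variable {B : Type*} [CommRing B]

section Poly

variable {ι : Type*}

/-- `X j` as the variable of a one-variable polynomial ring over the same ring. -/
def asPolyIn [DecidableEq ι] (j : ι) : MvPolynomial ι B →ₐ[B] Polynomial (MvPolynomial ι B) :=
  aeval fun i => if i = j then Polynomial.X else Polynomial.C (X i)

lemma eval_asPolyIn [DecidableEq ι] (j : ι) (p : MvPolynomial ι B) : (asPolyIn j p).eval (X j) = p := by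
  induction p using MvPolynomial.induction_on with
  | C a => simp [asPolyIn]
  | add p q hp hq => simp [hp, hq]
  | mul_X p i hp =>
    rw [map_mul, Polynomial.eval_mul, hp]
    congr 1
    by_cases h : i = j <;> simp [asPolyIn, h]

/-- `a X j - 1` is a non-zero-divisor modulo polynomials not involving `X j`. -/
lemma mem_of_mul_mem_linear [DecidableEq ι] (j : ι) (a : B) (S : Set (MvPolynomial ι B))
    (hS : ∀ p ∈ S, asPolyIn j p = Polynomial.C p) {z : MvPolynomial ι B}
    (hz : (C a * X j - 1) * z ∈ Ideal.span S) : z ∈ Ideal.span S := by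
  have hmap : asPolyIn j ((C a * X j - 1) * z) ∈ (Ideal.span S).map Polynomial.C := by
    have h1 := Ideal.mem_map_of_mem (asPolyIn j).toRingHom hz
    rw [Ideal.map_span] at h1 ⊢
    refine Ideal.span_mono ?_ h1
    rintro _ ⟨s, hs, rfl⟩
    exact ⟨s, hs, (hS s hs).symm⟩
  set P := asPolyIn j z with hP
  have hco := Ideal.mem_map_C_iff.mp hmap
  have hC : asPolyIn (B := B) j (C a) = Polynomial.C (C a) := by
    simp [asPolyIn, Polynomial.algebraMap_eq]
  have hX : asPolyIn (B := B) j (X j) = Polynomial.X := by simp [asPolyIn]
  rw [map_mul, map_sub, map_mul, map_one, hC, hX, ← hP] at hco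
  have key : ∀ m, P.coeff m ∈ Ideal.span S := by
    intro m
    induction m with
    | zero =>
      have h0 := hco 0
      rw [sub_mul, one_mul, Polynomial.coeff_sub, mul_assoc, Polynomial.coeff_C_mul,
        Polynomial.coeff_X_mul_zero, mul_zero, zero_sub] at h0
      exact neg_mem_iff.mp h0
    | succ m ih =>
      have h1 := hco (m + 1)
      rw [sub_mul, one_mul, Polynomial.coeff_sub, mul_assoc, Polynomial.coeff_C_mul,
        Polynomial.coeff_X_mul] at h1
      have h2 := sub_mem (Ideal.mul_mem_left _ (C a) ih) h1
      rwa [sub_sub_cancel] at h2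
  rw [← eval_asPolyIn j z, ← hP, Polynomial.eval_eq_sum_range]
  exact Ideal.sum_mem _ fun k _ => Ideal.mul_mem_right _ _ (key k)

/-- The polynomials `a i X i - 1` in distinct variables form a weakly regular sequence. -/
lemma isWeaklyRegular_linear : ∀ {n : ℕ} (v : Fin n → ι) (_ : Function.Injective v) (a : Fin n → B),
    RingTheory.Sequence.IsWeaklyRegular (MvPolynomial ι B) (List.ofFn fun i => C (a i) * X (v i) - 1) := by
  classical
  intro n
  induction n with
  | zero => intro _ _ _; simp
  | succ n ih =>
    intro v hv a
    refine (isWeaklyRegular_ofFn_succ _).mpr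
      ⟨ih (v ∘ Fin.castSucc) (hv.comp (Fin.castSucc_injective n)) (a ∘ Fin.castSucc), fun r hr => ?_⟩
    rw [Finsupp.range_linearCombination] at hr ⊢
    refine mem_of_mul_mem_linear (v (Fin.last n)) (a (Fin.last n)) _ ?_ hr
    rintro _ ⟨i, rfl⟩
    have hne : v i.castSucc ≠ v (Fin.last n) := fun h => Fin.castSucc_ne_last i (hv h)
    simp [asPolyIn, hne, Polynomial.algebraMap_eq]

end Poly

variable (S : Submonoid B) (L : Type*) [CommRing L] [Algebra B L] [IsLocalization S L]

/-- A localization as the quotient of `B[y_s]` by `s y_s - 1`. -/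
def locPresentation : Algebra.Presentation B L S S where
  toGenerators := Algebra.Generators.ofSurjective (fun s => IsLocalization.mk' L 1 s) (by
    intro z
    obtain ⟨b, s, rfl⟩ := IsLocalization.exists_mk'_eq S z
    refine ⟨C b * X s, ?_⟩
    rw [map_mul, aeval_C, aeval_X, IsLocalization.mul_mk'_eq_mk'_of_mul, mul_one])
  relation := fun s => C (s : B) * X s - 1
  span_range_relation_eq_ker := by
    classical
    refine le_antisymm ?_ ?_
    · refine Ideal.span_le.mpr ?_
      rintro _ ⟨s, rfl⟩
      rw [SetLike.mem_coe, Algebra.Generators.ker_eq_ker_aeval_val, RingHom.mem_ker]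
      rw [map_sub, map_mul, aeval_C, aeval_X, map_one]
      exact sub_eq_zero.mpr ((IsLocalization.mk'_spec' L (1 : B) s).trans (map_one _))
    · intro p hp
      rw [Algebra.Generators.ker_eq_ker_aeval_val, RingHom.mem_ker] at hp
      set J : Ideal (MvPolynomial S B) := Ideal.span (Set.range fun s : S => C (s : B) * X s - 1) with hJ
      let q : MvPolynomial S B →+* MvPolynomial S B ⧸ J := Ideal.Quotient.mk J
      have hinv : ∀ s : S, q (C (s : B)) * q (X s) = 1 := fun s => by
        rw [← map_mul, ← map_one q]
        exact Ideal.Quotient.eq.mpr (Ideal.subset_span ⟨s, rfl⟩)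
      let back : L →+* MvPolynomial S B ⧸ J :=
        IsLocalization.lift (g := q.comp C) fun s => IsUnit.of_mul_eq_one _ (hinv s)
      have hcomp : back.comp (aeval fun s : S => IsLocalization.mk' L (1 : B) s).toRingHom = q := by
        refine MvPolynomial.ringHom_ext (fun b => ?_) fun s => ?_
        · change back (aeval _ (C b)) = _
          rw [aeval_C]
          exact IsLocalization.lift_eq _ b
        · change back (aeval _ (X s)) = _
          rw [aeval_X]
          refine (IsLocalization.lift_mk'_spec _ _ _ _).mpr ?_
          rw [RingHom.comp_apply, RingHom.comp_apply, map_one, map_one]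
          exact (hinv s).symm
      refine Ideal.Quotient.eq_zero_iff_mem.mp ?_
      change q p = 0
      rw [← hcomp]
      exact (congrArg back hp).trans (map_zero _)

lemma locPresentation_algebraMap_coe (s : S) :
    algebraMap (locPresentation S L).toExtension.Ring L (C (s : B)) = algebraMap B L (s : B) :=
  (IsScalarTower.algebraMap_apply B (locPresentation S L).toExtension.Ring L (s : B)).symm

lemma T1mk_eq_zero'' {A' B' ι' σ' : Type*} [CommRing A'] [CommRing B'] [Algebra A' B']
    (P : Algebra.Presentation A' B' ι' σ') {M : Type*} [AddCommGroup M] [Module B' M] (φ : CotT.cocycles1 P M) :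
    (Submodule.Quotient.mk φ : CotT.T1 P M) = 0 ↔ ∃ ψ, CotT.d1Star P M ψ = (φ : CotT.L1 P →ₗ[B'] M) :=
  (Submodule.Quotient.mk_eq_zero _).trans LinearMap.mem_range

lemma subsingleton_T1_loc (M : Type*) [AddCommGroup M] [Module L M] :
    Subsingleton (CotT.T1 (locPresentation S L) M) := by
  refine subsingleton_of_forall_eq 0 fun x => ?_
  obtain ⟨φ, rfl⟩ := Submodule.Quotient.mk_surjective _ x
  refine (T1mk_eq_zero'' (locPresentation S L) φ).mpr
    ⟨(locPresentation S L).cotangentSpaceBasis.constr L fun s =>
      IsLocalization.mk' L (1 : B) s • (φ : CotT.L1 (locPresentation S L) →ₗ[L] M) (CotT.L1basis _ s), ?_⟩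
  refine (CotT.L1basis (locPresentation S L)).ext fun s => ?_
  rw [CotT.d1Star_apply, LinearMap.comp_apply]
  have h1 : CotT.d1 (locPresentation S L) (CotT.L1basis (locPresentation S L) s) =
      algebraMap B L (s : B) • (locPresentation S L).cotangentSpaceBasis s := by
    rw [CotT.L1basis_apply, ← mk1_apply, d1_mk1, CotT.jmap_single, one_mul, cotangentSpaceBasis_eq_dR]
    change dR _ ((algebraMap B (locPresentation S L).toExtension.Ring (s : B)) *
      @id (locPresentation S L).toExtension.Ring (X s : MvPolynomial S B) - (1 : (locPresentation S L).toExtension.Ring)) = _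
    refine (dR_sub _ _ _).trans ?_
    refine (congrArg₂ (· - ·) (dR_mul _ _ _) (show dR (locPresentation S L) 1 = 0 by
      rw [← map_one (algebraMap B (locPresentation S L).toExtension.Ring)]; exact dR_algebraMap _ 1)).trans ?_
    rw [dR_algebraMap, smul_zero, add_zero, sub_zero, ← IsScalarTower.algebraMap_apply]
    rfl
  rw [h1, map_smul, Module.Basis.constr_basis, smul_smul, IsLocalization.mk'_spec', map_one, one_smul]

lemma relKer_le_trivRel_loc : CotT.relKer (locPresentation S L) ≤ CotT.trivRel (locPresentation S L) := by
  classical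
  intro q hq
  set v : Fin q.support.card → S := fun i => q.support.equivFin.symm i with hv
  have hinj : Function.Injective v := Subtype.val_injective.comp q.support.equivFin.symm.injective
  let f : S → MvPolynomial S B := CotT.rel (locPresentation S L)
  obtain ⟨x, hx⟩ : ∃ x : Fin q.support.card →₀ (locPresentation S L).toExtension.Ring, x.mapDomain v = q := by
    refine ⟨q.comapDomain v hinj.injOn, Finsupp.mapDomain_comapDomain v hinj q ?_⟩
    intro s hs
    exact ⟨q.support.equivFin ⟨s, hs⟩, by simp [hv]⟩
  rw [← hx] at hq ⊢
  clear hx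
  have hw : RingTheory.Sequence.IsWeaklyRegular (locPresentation S L).toExtension.Ring
      (List.ofFn fun i => CotT.rel (locPresentation S L) (v i)) :=
    isWeaklyRegular_linear v hinj (fun i => ((v i : S) : B))
  have h0 : Finsupp.linearCombination _ (fun i => CotT.rel (locPresentation S L) (v i)) x = 0 := by
    have := (hq : CotT.jmap (locPresentation S L) (x.mapDomain v) = 0)
    exact (Finsupp.linearCombination_mapDomain (locPresentation S L).toExtension.Ring (v' := CotT.rel (locPresentation S L)) v x).symm.trans this
  have h1 := mem_triv_of_isWeaklyRegular _ hw x h0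
  clear hq h0
  induction h1 using Submodule.span_induction with
  | mem y hy =>
    obtain ⟨a, b, rfl⟩ := hy
    refine Submodule.subset_span ⟨a.mapDomain v, b.mapDomain v, ?_⟩
    change Finsupp.lmapDomain (locPresentation S L).toExtension.Ring (locPresentation S L).toExtension.Ring v _ = _
    rw [map_sub, map_smul, map_smul, Finsupp.lmapDomain_apply, Finsupp.lmapDomain_apply]
    refine congrArg₂ (fun c d => c • b.mapDomain v - d • a.mapDomain v) ?_ ?_
    · exact (Finsupp.linearCombination_mapDomain (locPresentation S L).toExtension.Ring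
        (v' := CotT.rel (locPresentation S L)) v a).symm
    · exact (Finsupp.linearCombination_mapDomain (locPresentation S L).toExtension.Ring
        (v' := CotT.rel (locPresentation S L)) v b).symm
  | zero => rw [Finsupp.mapDomain_zero]; exact zero_mem _
  | add a b _ _ ha hb => rw [Finsupp.mapDomain_add]; exact add_mem ha hb
  | smul c a _ ha => rw [Finsupp.mapDomain_smul]; exact Submodule.smul_mem _ _ ha

lemma subsingleton_T2_loc (M : Type*) [AddCommGroup M] [Module L M] :
    Subsingleton (CotT.T2 (locPresentation S L) M) := by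
  haveI := subsingleton_L2_of_relKer_le _ (relKer_le_trivRel_loc S L)
  exact subsingleton_T2_of_subsingleton_L2 _ M

section Canon

universe u

variable {k A L' : Type u} [CommRing k] [CommRing A] [CommRing L'] [Algebra k A] [Algebra A L'] [Algebra k L']
  [IsScalarTower k A L']
  (M : Type u) [AddCommGroup M] [Module L' M] [Module A M] [IsScalarTower A L' M]

theorem subsingleton_T1_of_localization (S' : Submonoid A) [IsLocalization S' L']
    (h : Subsingleton (CotT.T1 (CotT.canon k A) M)) :
    Subsingleton (CotT.T1 (CotT.canon k L') M) := by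
  haveI := subsingleton_T1_loc S' L' M
  obtain ⟨-, -, h11, -, -⟩ :=
    nine_term (M := M) (locPresentation S' L') (CotT.canon k A) (CotT.canon k L')
      (presHom (CotT.canon k L') (locPresentation S' L')) (presHom (CotT.canon k A) (CotT.canon k L'))
  refine subsingleton_of_forall_eq 0 fun x => ?_
  obtain ⟨y, rfl⟩ := (h11 x).mp (h.elim _ _)
  rw [Subsingleton.elim y 0, map_zero]

theorem subsingleton_T2_of_localization (S' : Submonoid A) [IsLocalization S' L']
    (h : Subsingleton (CotT.T2 (CotT.canon k A) M)) :
    Subsingleton (CotT.T2 (CotT.canon k L') M) := by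
  haveI := subsingleton_T2_loc S' L' M
  obtain ⟨-, -, -, h22, -⟩ :=
    nine_term (M := M) (locPresentation S' L') (CotT.canon k A) (CotT.canon k L')
      (presHom (CotT.canon k L') (locPresentation S' L')) (presHom (CotT.canon k A) (CotT.canon k L'))
  refine subsingleton_of_forall_eq 0 fun x => ?_
  obtain ⟨y, rfl⟩ := (h22 x).mp (h.elim _ _)
  rw [Subsingleton.elim y 0, map_zero]

end Canon

end CotTLib

end
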