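import Groth.Agent.CotTLib.Low

/-!
# The long exact sequence in the module, and vanishing for polynomial algebras
-/

noncomputable section

open TensorProduct

namespace CotTLib

section

variable {A B ι σ : Type*} [CommRing A] [CommRing B] [Algebra A B]
variable (P : Algebra.Presentation A B ι σ)
variable {M' M M'' : Type*} [AddCommGroup M'] [Module B M'] [AddCommGroup M] [Module B M]
  [AddCommGroup M''] [Module B M'']
variable {f : M' →ₗ[B] M} {g : M →ₗ[B] M''}

/-- Postcomposition, as an additive map. -/
def post (X : Type*) [AddCommGroup X] [Module B X] {N N' : Type*} [AddCommGroup N] [Module B N]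
    [AddCommGroup N'] [Module B N'] (u : N →ₗ[B] N') : (X →ₗ[B] N) →+ (X →ₗ[B] N') :=
  (LinearMap.llcomp B X N N' u).toAddMonoidHom

lemma post_apply {X : Type*} [AddCommGroup X] [Module B X] {N N' : Type*} [AddCommGroup N] [Module B N]
    [AddCommGroup N'] [Module B N'] (u : N →ₗ[B] N') (φ : X →ₗ[B] N) : post X u φ = u ∘ₗ φ := rfl

lemma post_injective (hf : Function.Injective f) (X : Type*) [AddCommGroup X] [Module B X] :
    Function.Injective (post X f) := fun φ φ' h =>
  LinearMap.ext fun x => hf (LinearMap.congr_fun h x)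

lemma post_comp_eq_zero (hfg : Function.Exact f g) (X : Type*) [AddCommGroup X] [Module B X]
    (φ : X →ₗ[B] M') : post X g (post X f φ) = 0 :=
  LinearMap.ext fun x => hfg.apply_apply_eq_zero (φ x)

lemma post_exists (hf : Function.Injective f) (hfg : Function.Exact f g) (X : Type*) [AddCommGroup X]
    [Module B X] (φ : X →ₗ[B] M) (h : post X g φ = 0) : ∃ u, post X f u = φ := by
  have hmem : ∀ x, φ x ∈ LinearMap.range f := fun x => (hfg (φ x)).mp (LinearMap.congr_fun h x)
  let e := LinearEquiv.ofInjective f hf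
  refine ⟨e.symm.toLinearMap ∘ₗ φ.codRestrict (LinearMap.range f) hmem, LinearMap.ext fun x => ?_⟩
  exact congrArg Subtype.val (e.apply_symm_apply ⟨φ x, hmem x⟩)

lemma post_surjective_of_basis (hg : Function.Surjective g) {X : Type*} [AddCommGroup X] [Module B X]
    {κ : Type*} (b : Module.Basis κ B X) : Function.Surjective (post X g) := fun φ =>
  ⟨b.constr B fun i => Function.surjInv hg (φ (b i)), b.ext fun i => by
    rw [post_apply, LinearMap.comp_apply, Module.Basis.constr_basis, Function.surjInv_eq hg]⟩

/-- The long exact sequence of `Tⁱ(P, -)`. -/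
theorem long_exact (hf : Function.Injective f) (hg : Function.Surjective g) (hfg : Function.Exact f g) :
    Function.Injective (CotT.T0map P f) ∧ Function.Exact (CotT.T0map P f) (CotT.T0map P g) ∧
      Function.Exact (CotT.T1map P f) (CotT.T1map P g) ∧ Function.Exact (CotT.T2map P f) (CotT.T2map P g) ∧
      ∃ (δ₀ : CotT.T0 P M'' →+ CotT.T1 P M') (δ₁ : CotT.T1 P M'' →+ CotT.T2 P M'),
        Function.Exact (CotT.T0map P g) δ₀ ∧ Function.Exact δ₀ (CotT.T1map P f) ∧
        Function.Exact (CotT.T1map P g) δ₁ ∧ Function.Exact δ₁ (CotT.T2map P f) :=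
  Snake.exact_sequence (cochainData P M') (cochainData P M) (cochainData P M'')
    (post _ f) (post _ f) (post _ f) (post _ g) (post _ g) (post _ g)
    (fun _ => rfl) (fun _ => rfl) (fun _ => rfl) (fun _ => rfl)
    (post_injective hf _) (post_injective hf _) (post_injective hf _)
    (post_comp_eq_zero hfg _) (post_comp_eq_zero hfg _) (post_comp_eq_zero hfg _)
    (post_exists hf hfg _) (post_exists hf hfg _) (post_exists hf hfg _)
    (post_surjective_of_basis hg P.cotangentSpaceBasis) (post_surjective_of_basis hg (CotT.L1basis P))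
    (CotT.T0map P f).toAddMonoidHom (CotT.T1map P f).toAddMonoidHom (CotT.T2map P f).toAddMonoidHom
    (CotT.T0map P g).toAddMonoidHom (CotT.T1map P g).toAddMonoidHom (CotT.T2map P g).toAddMonoidHom
    (fun _ => rfl) (fun _ => rfl)
    (fun z => ⟨CotT.cocycles1Map P f z, rfl, rfl⟩) (fun z => ⟨CotT.cocycles1Map P g z, rfl, rfl⟩)
    (fun _ => rfl) (fun _ => rfl)

lemma post_smul {X : Type*} [AddCommGroup X] [Module B X] {N N' : Type*} [AddCommGroup N] [Module B N]
    [AddCommGroup N'] [Module B N'] (u : N →ₗ[B] N') (c : B) (φ : X →ₗ[B] N) :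
    post X u (c • φ) = c • post X u φ := by
  rw [post_apply, post_apply, LinearMap.comp_smul]

/-- The long exact sequence, with linear connecting maps. -/
theorem long_exact_linear (hf : Function.Injective f) (hg : Function.Surjective g) (hfg : Function.Exact f g) :
    Function.Injective (CotT.T0map P f) ∧ Function.Exact (CotT.T0map P f) (CotT.T0map P g) ∧
      Function.Exact (CotT.T1map P f) (CotT.T1map P g) ∧ Function.Exact (CotT.T2map P f) (CotT.T2map P g) ∧
      ∃ (δ₀ : CotT.T0 P M'' →ₗ[B] CotT.T1 P M') (δ₁ : CotT.T1 P M'' →ₗ[B] CotT.T2 P M'),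
        Function.Exact (CotT.T0map P g) δ₀ ∧ Function.Exact δ₀ (CotT.T1map P f) ∧
        Function.Exact (CotT.T1map P g) δ₁ ∧ Function.Exact δ₁ (CotT.T2map P f) := by
  obtain ⟨h1, h2, h3, h4, δ₀, δ₁, h5, h6, h7, h8, hd0, hd0', hd1, hd1'⟩ :=
    Snake.exact_sequence' (cochainData P M') (cochainData P M) (cochainData P M'')
    (post _ f) (post _ f) (post _ f) (post _ g) (post _ g) (post _ g)
    (fun _ => rfl) (fun _ => rfl) (fun _ => rfl) (fun _ => rfl)
    (post_injective hf _) (post_injective hf _) (post_injective hf _)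
    (post_comp_eq_zero hfg _) (post_comp_eq_zero hfg _) (post_comp_eq_zero hfg _)
    (post_exists hf hfg _) (post_exists hf hfg _) (post_exists hf hfg _)
    (post_surjective_of_basis hg P.cotangentSpaceBasis) (post_surjective_of_basis hg (CotT.L1basis P))
    (CotT.T0map P f).toAddMonoidHom (CotT.T1map P f).toAddMonoidHom (CotT.T2map P f).toAddMonoidHom
    (CotT.T0map P g).toAddMonoidHom (CotT.T1map P g).toAddMonoidHom (CotT.T2map P g).toAddMonoidHom
    (fun _ => rfl) (fun _ => rfl)
    (fun z => ⟨CotT.cocycles1Map P f z, rfl, rfl⟩) (fun z => ⟨CotT.cocycles1Map P g z, rfl, rfl⟩)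
    (fun _ => rfl) (fun _ => rfl)
  refine ⟨h1, h2, h3, h4,
    { toFun := δ₀, map_add' := δ₀.map_add, map_smul' := fun c x => ?_ },
    { toFun := δ₁, map_add' := δ₁.map_add, map_smul' := fun c x => ?_ }, h5, h6, h7, h8⟩
  · obtain ⟨b, z, e1, e2, e3⟩ := hd0 x
    rw [RingHom.id_apply, e3]
    refine (hd0' (c • x) (c • b) (c • z) ?_ ?_).trans ?_
    · exact (post_smul g c b).trans (congrArg (c • ·) e1)
    · refine (post_smul f c _).trans ((congrArg (c • ·) e2).trans ?_)
      exact ((CotT.d1Star P M).map_smul c b).symm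
    · exact (CotT.coboundaries1 P M').mkQ.map_smul c z
  · obtain ⟨b, z, s, e0, e1, e2, e3⟩ := hd1 x
    have hx : δ₁ (c • x) = δ₁ ((cochainData P M'').q₁ (c • z)) := by
      rewrite [← e0]
      exact congrArg δ₁ ((CotT.coboundaries1 P M'').mkQ.map_smul c z).symm
    refine hx.trans ((hd1' (c • b) (c • z) (c • s) ?_ ?_).trans (Eq.trans ?_ (congrArg (c • ·) e3).symm))
    · exact (post_smul g c b).trans (congrArg (c • ·) e1)
    · refine (post_smul f c _).trans ((congrArg (c • ·) e2).trans ?_)
      exact ((CotT.d2Star P M).map_smul c b).symm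
    · exact (LinearMap.range (CotT.d2Star P M')).mkQ.map_smul c s

end

section Polynomial

variable {A B ι σ : Type*} [CommRing A] [CommRing B] [Algebra A B]
variable {M : Type*} [AddCommGroup M] [Module B M]

lemma subsingleton_T1_of_isEmpty (P : Algebra.Presentation A B ι σ) [IsEmpty σ] :
    Subsingleton (CotT.T1 P M) := by
  refine subsingleton_of_forall_eq 0 fun x => ?_
  obtain ⟨φ, rfl⟩ := Submodule.Quotient.mk_surjective _ x
  rw [show φ = 0 from Subtype.ext ((CotT.L1basis P).ext fun s => isEmptyElim s)]
  exact Submodule.Quotient.mk_zero _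

lemma subsingleton_T2_of_isEmpty (P : Algebra.Presentation A B ι σ) [IsEmpty σ] :
    Subsingleton (CotT.T2 P M) := by
  refine subsingleton_of_forall_eq 0 fun x => ?_
  obtain ⟨φ, rfl⟩ := Submodule.Quotient.mk_surjective _ x
  rw [show φ = 0 from L2_ext fun q => by
    rw [show q = 0 from Subtype.ext (Finsupp.ext fun s => isEmptyElim s), map_zero, map_zero, map_zero]]
  exact Submodule.Quotient.mk_zero _

/-- A polynomial algebra as a presentation without relations. -/
def polyPresentation {κ : Type*} (e : MvPolynomial κ A ≃ₐ[A] B) : Algebra.Presentation A B κ PEmpty.{1} where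
  toGenerators := Algebra.Generators.ofAlgEquiv (Algebra.Generators.mvPolynomial A κ) e
  relation := PEmpty.elim
  span_range_relation_eq_ker := by
    rw [Set.range_eq_empty, Ideal.span_empty, eq_comm, Algebra.Generators.ker_ofAlgEquiv,
      Algebra.Generators.ker_mvPolynomial]

end Polynomial

end CotTLib

end
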