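import Groth.Agent.CotTLib.NineTerm

/-!
# `T⁰` is derivations; `T¹` is the cokernel of `Hom(Ω ⊗ B, M) → Hom(I/I², M)`
-/

noncomputable section

open TensorProduct

namespace CotTLib

variable {A B ι σ : Type*} [CommRing A] [CommRing B] [Algebra A B]
variable {P : Algebra.Presentation A B ι σ}
variable {M : Type*} [AddCommGroup M] [Module B M]

lemma toCot_mk1 (f : CotT.relMod P) :
    CotT.toCot P (mk1 P f) = Algebra.Extension.Cotangent.mk (CotT.jker P f) := by
  rw [mk1_apply, CotT.toCot_tmul, one_smul]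

lemma toCot_surjective : Function.Surjective (CotT.toCot P) := by
  intro y
  obtain ⟨x, rfl⟩ := Algebra.Extension.Cotangent.mk_surjective y
  have hx : (x : P.toExtension.Ring) ∈ LinearMap.range (CotT.jmap P) := by
    rw [CotT.range_jmap]; exact x.2
  obtain ⟨f, hf⟩ := hx
  exact ⟨mk1 P f, (toCot_mk1 f).trans (congrArg _ (Subtype.ext hf))⟩

/-- Cocycles factor through `I/I²`. -/
lemma cocycle_eq_zero_of_toCot {φ : CotT.L1 P →ₗ[B] M} (hφ : CotT.d2Star P M φ = 0)
    {z : CotT.L1 P} (hz : CotT.toCot P z = 0) : φ z = 0 := by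
  obtain ⟨f, rfl⟩ := mk1_surjective P z
  rw [toCot_mk1] at hz
  have hsq : (CotT.jker P f : P.toExtension.Ring) ∈ P.toExtension.ker ^ 2 :=
    Algebra.Extension.Cotangent.mk_eq_zero_iff _ |>.mp hz
  rw [sq] at hsq
  have key : ∀ x ∈ P.toExtension.ker * P.toExtension.ker,
      ∃ g : CotT.relMod P, CotT.jmap P g = x ∧ φ (mk1 P g) = 0 := by
    intro x hx
    refine Submodule.mul_induction_on hx ?_ ?_
    · intro a ha b hb
      have hb' : b ∈ LinearMap.range (CotT.jmap P) := by
        rw [CotT.range_jmap]; exact hb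
      obtain ⟨g, rfl⟩ := hb'
      refine ⟨a • g, by rw [map_smul, smul_eq_mul], ?_⟩
      rw [(mk1 P).map_smulₛₗ, show algebraMap P.toExtension.Ring B a = 0 from ha, zero_smul, map_zero]
    · rintro a b ⟨g, rfl, hg⟩ ⟨g', rfl, hg'⟩
      exact ⟨g + g', map_add _ _ _, by rw [map_add, map_add, hg, hg', add_zero]⟩
  obtain ⟨g, hg, hg0⟩ := key _ hsq
  have hq : f - g ∈ CotT.relKer P := by
    change CotT.jmap P (f - g) = 0
    rw [map_sub, hg, CotT.jker_apply, sub_self]
  have h0 : φ (mk1 P (f - g)) = 0 := by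
    rw [← d2_mk2 P ⟨f - g, hq⟩]
    exact LinearMap.congr_fun hφ _
  rw [← hg0, ← sub_eq_zero, ← map_sub]
  refine Eq.trans (congrArg φ ?_) h0
  exact (map_sub (mk1 P).toAddMonoidHom f g).symm

lemma homToT1_surjective : Function.Surjective (CotT.homToT1 P M) := by
  intro x
  obtain ⟨⟨φ, hφ⟩, rfl⟩ := Submodule.Quotient.mk_surjective _ x
  have hker : LinearMap.ker (CotT.toCot P) ≤ LinearMap.ker φ := fun z hz =>
    cocycle_eq_zero_of_toCot hφ hz
  let e := (CotT.toCot P).quotKerEquivOfSurjective toCot_surjective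
  refine ⟨(Submodule.liftQ _ φ hker) ∘ₗ e.symm.toLinearMap, ?_⟩
  refine congrArg Submodule.Quotient.mk (Subtype.ext (LinearMap.ext fun z => ?_))
  change Submodule.liftQ _ φ hker (e.symm (CotT.toCot P z)) = φ z
  rw [show e.symm (CotT.toCot P z) = Submodule.Quotient.mk z from e.injective (by
    rw [e.apply_symm_apply]; rfl)]
  rfl

lemma ker_homToT1 :
    LinearMap.ker (CotT.homToT1 P M) = LinearMap.range (LinearMap.lcomp B M P.toExtension.cotangentComplex) := by
  ext φ
  rw [LinearMap.mem_ker, LinearMap.mem_range]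
  refine (Submodule.Quotient.mk_eq_zero _).trans (LinearMap.mem_range.trans (exists_congr fun ψ => ?_))
  constructor
  · intro h
    refine LinearMap.ext fun y => ?_
    obtain ⟨z, rfl⟩ := toCot_surjective y
    exact LinearMap.congr_fun h z
  · rintro rfl
    rfl

lemma ker_d1Star :
    LinearMap.ker (CotT.d1Star P M) = LinearMap.ker (LinearMap.lcomp B M P.toExtension.cotangentComplex) := by
  ext φ
  rw [LinearMap.mem_ker, LinearMap.mem_ker]
  constructor
  · intro h
    refine LinearMap.ext fun y => ?_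
    obtain ⟨z, rfl⟩ := toCot_surjective y
    exact LinearMap.congr_fun h z
  · intro h
    exact LinearMap.ext fun z => LinearMap.congr_fun h _

/-- The kernel of the coboundary kills `d` of the kernel ideal. -/
lemma T0_apply_dR_eq_zero (ψ : CotT.T0 P M) {r : P.toExtension.Ring}
    (hr : algebraMap P.toExtension.Ring B r = 0) : (ψ : CotT.L0 P →ₗ[B] M) (dR P r) = 0 := by
  have hmem : r ∈ LinearMap.range (CotT.jmap P) := by
    rw [CotT.range_jmap]; exact hr
  obtain ⟨f, rfl⟩ := hmem
  rw [← d1_mk1]
  exact LinearMap.congr_fun (show CotT.d1Star P M (ψ : CotT.L0 P →ₗ[B] M) = 0 from ψ.2) _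

/-- `T⁰` is the module of derivations. -/
theorem derToT0_bijective [Module A M] [IsScalarTower A B M] :
    Function.Bijective (CotT.derToT0 P M) := by
  constructor
  · intro D D' h
    ext b
    obtain ⟨r, rfl⟩ := surjective_algebraMap P b
    have := LinearMap.congr_fun (congrArg Subtype.val h) (dR P r)
    rw [CotT.derToT0_apply, CotT.derToT0_apply] at this
    simpa only [dR, CotT.derLift_tmul_D, one_smul] using this
  · intro ψ
    obtain ⟨sec, hsec⟩ := (surjective_algebraMap P).hasRightInverse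
    set f : B → M := fun b => (ψ : CotT.L0 P →ₗ[B] M) (dR P (sec b)) with hf
    have hwell : ∀ r, f (algebraMap P.toExtension.Ring B r) = (ψ : CotT.L0 P →ₗ[B] M) (dR P r) := fun r => by
      rw [hf, ← sub_eq_zero, ← map_sub, ← dR_sub]
      exact T0_apply_dR_eq_zero ψ (by rw [map_sub, hsec, sub_self])
    have hadd : ∀ b c, f (b + c) = f b + f c := fun b c => by
      obtain ⟨r, rfl⟩ := surjective_algebraMap P b
      obtain ⟨s, rfl⟩ := surjective_algebraMap P c
      rw [← map_add, hwell, hwell, hwell, dR_add, map_add]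
    have hsmul : ∀ (a : A) b, f (a • b) = a • f b := fun a b => by
      obtain ⟨r, rfl⟩ := surjective_algebraMap P b
      rw [Algebra.smul_def, IsScalarTower.algebraMap_apply A P.toExtension.Ring B, ← map_mul, hwell, dR_mul,
        dR_algebraMap, smul_zero, add_zero, map_smul, ← IsScalarTower.algebraMap_apply, algebraMap_smul, hwell]
    have hmul : ∀ b c, f (b * c) = b • f c + c • f b := fun b c => by
      obtain ⟨r, rfl⟩ := surjective_algebraMap P b
      obtain ⟨s, rfl⟩ := surjective_algebraMap P c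
      rw [← map_mul, hwell, hwell, hwell, dR_mul, map_add, map_smul, map_smul]
    refine ⟨Derivation.mk' { toFun := f, map_add' := hadd, map_smul' := hsmul } hmul,
      Subtype.ext (L0_ext fun i => ?_)⟩
    rw [CotT.derToT0_apply, dR, CotT.derLift_tmul_D, one_smul]
    exact hwell _

end CotTLib

end
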