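import Mathlib.Algebra.Exact.Basic
import Mathlib.Tactic.Abel

/-!
# The long exact sequence of three two-step complexes, in elementary terms

The cohomology groups are given abstractly: `H₀ = ker d⁰` (via an injection), `H₁` a quotient of the cocycles,
`H₂` a quotient of the top group.
-/

namespace CotTLib.Snake

/-- An additive map from a total and functional additive relation. -/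
lemma exists_addMonoidHom_of_rel {X Y : Type*} [AddCommGroup X] [AddCommGroup Y] (R : X → Y → Prop)
    (htot : ∀ x, ∃ y, R x y) (hfun : ∀ x y y', R x y → R x y' → y = y')
    (hadd : ∀ x y x' y', R x y → R x' y' → R (x + x') (y + y')) :
    ∃ f : X →+ Y, ∀ x y, R x y ↔ f x = y := by
  choose g hg using htot
  refine ⟨AddMonoidHom.mk' g fun x x' => hfun _ _ _ (hg _) (hadd _ _ _ _ (hg x) (hg x')), fun x y => ?_⟩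
  exact ⟨fun h => hfun _ _ _ (hg x) h, fun h => h ▸ hg x⟩

/-- A two-step complex with its cohomology. -/
structure Data (K₀ K₁ K₂ Z H₀ H₁ H₂ : Type*) [AddCommGroup K₀] [AddCommGroup K₁] [AddCommGroup K₂]
    [AddCommGroup Z] [AddCommGroup H₀] [AddCommGroup H₁] [AddCommGroup H₂] where
  d₀ : K₀ →+ K₁
  d₁ : K₁ →+ K₂
  dd : ∀ x, d₁ (d₀ x) = 0
  i₀ : H₀ →+ K₀
  i₀_inj : Function.Injective i₀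
  d_i₀ : ∀ x, d₀ (i₀ x) = 0
  exists_i₀ : ∀ x, d₀ x = 0 → ∃ y, i₀ y = x
  iZ : Z →+ K₁
  iZ_inj : Function.Injective iZ
  d_iZ : ∀ z, d₁ (iZ z) = 0
  exists_iZ : ∀ x, d₁ x = 0 → ∃ z, iZ z = x
  q₁ : Z →+ H₁
  q₁_surj : Function.Surjective q₁
  q₁_eq_zero : ∀ z, q₁ z = 0 ↔ ∃ x, d₀ x = iZ z
  q₂ : K₂ →+ H₂
  q₂_surj : Function.Surjective q₂
  q₂_eq_zero : ∀ x, q₂ x = 0 ↔ ∃ y, d₁ y = x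

variable {S₀ S₁ S₂ ZS AS₀ AS₁ AS₂ W₀ W₁ W₂ ZW AW₀ AW₁ AW₂ R₀ R₁ R₂ ZR AR₀ AR₁ AR₂ : Type*}
variable [AddCommGroup S₀] [AddCommGroup S₁] [AddCommGroup S₂] [AddCommGroup ZS] [AddCommGroup AS₀]
  [AddCommGroup AS₁] [AddCommGroup AS₂]
variable [AddCommGroup W₀] [AddCommGroup W₁] [AddCommGroup W₂] [AddCommGroup ZW] [AddCommGroup AW₀]
  [AddCommGroup AW₁] [AddCommGroup AW₂]
variable [AddCommGroup R₀] [AddCommGroup R₁] [AddCommGroup R₂] [AddCommGroup ZR] [AddCommGroup AR₀]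
  [AddCommGroup AR₁] [AddCommGroup AR₂]

/-- The sequence: the rows are short exact in degrees 0 and 1 and left exact in degree 2. -/
theorem exact_sequence' (S : Data S₀ S₁ S₂ ZS AS₀ AS₁ AS₂) (W : Data W₀ W₁ W₂ ZW AW₀ AW₁ AW₂)
    (R : Data R₀ R₁ R₂ ZR AR₀ AR₁ AR₂)
    (p₀ : S₀ →+ W₀) (p₁ : S₁ →+ W₁) (p₂ : S₂ →+ W₂) (r₀ : W₀ →+ R₀) (r₁ : W₁ →+ R₁) (r₂ : W₂ →+ R₂)
    (hp₀ : ∀ x, W.d₀ (p₀ x) = p₁ (S.d₀ x)) (hp₁ : ∀ x, W.d₁ (p₁ x) = p₂ (S.d₁ x))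
    (hr₀ : ∀ x, R.d₀ (r₀ x) = r₁ (W.d₀ x)) (hr₁ : ∀ x, R.d₁ (r₁ x) = r₂ (W.d₁ x))
    (ip₀ : Function.Injective p₀) (ip₁ : Function.Injective p₁) (ip₂ : Function.Injective p₂)
    (rp₀ : ∀ x, r₀ (p₀ x) = 0) (rp₁ : ∀ x, r₁ (p₁ x) = 0) (rp₂ : ∀ x, r₂ (p₂ x) = 0)
    (kr₀ : ∀ x, r₀ x = 0 → ∃ y, p₀ y = x) (kr₁ : ∀ x, r₁ x = 0 → ∃ y, p₁ y = x)
    (kr₂ : ∀ x, r₂ x = 0 → ∃ y, p₂ y = x)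
    (sr₀ : Function.Surjective r₀) (sr₁ : Function.Surjective r₁)
    (P₀ : AS₀ →+ AW₀) (P₁ : AS₁ →+ AW₁) (P₂ : AS₂ →+ AW₂) (Q₀ : AW₀ →+ AR₀) (Q₁ : AW₁ →+ AR₁) (Q₂ : AW₂ →+ AR₂)
    (hP₀ : ∀ x, W.i₀ (P₀ x) = p₀ (S.i₀ x)) (hQ₀ : ∀ x, R.i₀ (Q₀ x) = r₀ (W.i₀ x))
    (hP₁ : ∀ z, ∃ z', W.iZ z' = p₁ (S.iZ z) ∧ P₁ (S.q₁ z) = W.q₁ z')
    (hQ₁ : ∀ z, ∃ z', R.iZ z' = r₁ (W.iZ z) ∧ Q₁ (W.q₁ z) = R.q₁ z')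
    (hP₂ : ∀ x, P₂ (S.q₂ x) = W.q₂ (p₂ x)) (hQ₂ : ∀ x, Q₂ (W.q₂ x) = R.q₂ (r₂ x)) :
    Function.Injective P₀ ∧ Function.Exact P₀ Q₀ ∧ Function.Exact P₁ Q₁ ∧ Function.Exact P₂ Q₂ ∧
    ∃ (δ₀ : AR₀ →+ AS₁) (δ₁ : AR₁ →+ AS₂),
      Function.Exact Q₀ δ₀ ∧ Function.Exact δ₀ P₁ ∧ Function.Exact Q₁ δ₁ ∧ Function.Exact δ₁ P₂ ∧
      (∀ x, ∃ b z, r₀ b = R.i₀ x ∧ p₁ (S.iZ z) = W.d₀ b ∧ δ₀ x = S.q₁ z) ∧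
      (∀ x b z, r₀ b = R.i₀ x → p₁ (S.iZ z) = W.d₀ b → δ₀ x = S.q₁ z) ∧
      (∀ x, ∃ b z s, R.q₁ z = x ∧ r₁ b = R.iZ z ∧ p₂ s = W.d₁ b ∧ δ₁ x = S.q₂ s) ∧
      (∀ b z s, r₁ b = R.iZ z → p₂ s = W.d₁ b → δ₁ (R.q₁ z) = S.q₂ s) := by
  refine ⟨fun x y h => S.i₀_inj (ip₀ (by rw [← hP₀, ← hP₀, h])), ?_, ?_, ?_, ?_⟩
  · intro w
    constructor
    · intro h
      obtain ⟨s, hs⟩ := kr₀ (W.i₀ w) (by rw [← hQ₀, h, map_zero])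
      obtain ⟨s', rfl⟩ := S.exists_i₀ s (ip₁ (by rw [← hp₀, hs, W.d_i₀, map_zero]))
      exact ⟨s', W.i₀_inj (by rw [hP₀, hs])⟩
    · rintro ⟨s, rfl⟩
      exact R.i₀_inj (by rw [hQ₀, hP₀, rp₀, map_zero])
  · intro x
    obtain ⟨w, rfl⟩ := W.q₁_surj x
    obtain ⟨z, hz, hQ⟩ := hQ₁ w
    constructor
    · intro h
      obtain ⟨c, hc⟩ := (R.q₁_eq_zero z).mp (hQ.symm.trans h)
      obtain ⟨b, rfl⟩ := sr₀ c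
      obtain ⟨s, hs⟩ := kr₁ (W.iZ w - W.d₀ b) (by rw [map_sub, ← hr₀, hc, hz, sub_self])
      obtain ⟨s', rfl⟩ := S.exists_iZ s (ip₂ (by rw [← hp₁, hs, map_sub, W.d_iZ, W.dd, sub_zero, map_zero]))
      obtain ⟨t, ht, hP⟩ := hP₁ s'
      refine ⟨S.q₁ s', ?_⟩
      rw [hP, ← sub_eq_zero, ← map_sub, W.q₁_eq_zero]
      exact ⟨-b, by rw [map_neg, map_sub, ht, hs]; abel⟩
    · rintro ⟨y, hy⟩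
      obtain ⟨s, rfl⟩ := S.q₁_surj y
      obtain ⟨t, ht, hP⟩ := hP₁ s
      obtain ⟨t', ht', hQ'⟩ := hQ₁ t
      rw [← hy, hP, hQ', R.q₁_eq_zero]
      exact ⟨0, by rw [map_zero, ht', ht, rp₁]⟩
  · intro x
    obtain ⟨w, rfl⟩ := W.q₂_surj x
    constructor
    · intro h
      obtain ⟨c, hc⟩ := (R.q₂_eq_zero _).mp ((hQ₂ w).symm.trans h)
      obtain ⟨b, rfl⟩ := sr₁ c
      obtain ⟨s, hs⟩ := kr₂ (w - W.d₁ b) (by rw [map_sub, ← hr₁, hc, sub_self])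
      refine ⟨S.q₂ s, ?_⟩
      rw [hP₂, ← sub_eq_zero, ← map_sub, W.q₂_eq_zero]
      exact ⟨-b, by rw [map_neg, hs]; abel⟩
    · rintro ⟨y, hy⟩
      obtain ⟨s, rfl⟩ := S.q₂_surj y
      rw [← hy, hP₂, hQ₂, rp₂, map_zero]
  -- the connecting maps
  obtain ⟨δ₀, hδ₀⟩ := exists_addMonoidHom_of_rel
    (fun (x : AR₀) (y : AS₁) => ∃ b z, r₀ b = R.i₀ x ∧ p₁ (S.iZ z) = W.d₀ b ∧ S.q₁ z = y)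
    (by
      intro x
      obtain ⟨b, hb⟩ := sr₀ (R.i₀ x)
      obtain ⟨s, hs⟩ := kr₁ (W.d₀ b) (by rw [← hr₀, hb, R.d_i₀])
      obtain ⟨z, rfl⟩ := S.exists_iZ s (ip₂ (by rw [← hp₁, hs, W.dd, map_zero]))
      exact ⟨_, b, z, hb, hs, rfl⟩)
    (by
      rintro x y y' ⟨b, z, h1, h2, rfl⟩ ⟨b', z', h1', h2', rfl⟩
      obtain ⟨u, hu⟩ := kr₀ (b - b') (by rw [map_sub, h1, h1', sub_self])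
      rw [← sub_eq_zero, ← map_sub, S.q₁_eq_zero]
      exact ⟨u, ip₁ (by rw [← hp₀, hu, map_sub, map_sub, map_sub, h2, h2'])⟩)
    (by
      rintro x y x' y' ⟨b, z, h1, h2, rfl⟩ ⟨b', z', h1', h2', rfl⟩
      exact ⟨b + b', z + z', by rw [map_add, map_add, h1, h1'],
        by rw [map_add, map_add, map_add, h2, h2'], map_add _ _ _⟩)
  obtain ⟨δ₁, hδ₁⟩ := exists_addMonoidHom_of_rel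
    (fun (x : AR₁) (y : AS₂) => ∃ b z s, R.q₁ z = x ∧ r₁ b = R.iZ z ∧ p₂ s = W.d₁ b ∧ S.q₂ s = y)
    (by
      intro x
      obtain ⟨z, rfl⟩ := R.q₁_surj x
      obtain ⟨b, hb⟩ := sr₁ (R.iZ z)
      obtain ⟨s, hs⟩ := kr₂ (W.d₁ b) (by rw [← hr₁, hb, R.d_iZ])
      exact ⟨_, b, z, s, rfl, hb, hs, rfl⟩)
    (by
      rintro x y y' ⟨b, z, s, h0, h1, h2, rfl⟩ ⟨b', z', s', h0', h1', h2', rfl⟩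
      obtain ⟨c, hc⟩ := (R.q₁_eq_zero (z - z')).mp (by rw [map_sub, h0, h0', sub_self])
      obtain ⟨a, rfl⟩ := sr₀ c
      obtain ⟨u, hu⟩ := kr₁ (b - b' - W.d₀ a) (by rw [map_sub, map_sub, h1, h1', ← hr₀, hc, map_sub, sub_self])
      rw [← sub_eq_zero, ← map_sub, S.q₂_eq_zero]
      exact ⟨u, ip₂ (by rw [← hp₁, hu, map_sub, map_sub, W.dd, sub_zero, map_sub, h2, h2'])⟩)
    (by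
      rintro x y x' y' ⟨b, z, s, h0, h1, h2, rfl⟩ ⟨b', z', s', h0', h1', h2', rfl⟩
      exact ⟨b + b', z + z', s + s', by rw [map_add, h0, h0'], by rw [map_add, map_add, h1, h1'],
        by rw [map_add, map_add, h2, h2'], map_add _ _ _⟩)
  refine ⟨δ₀, δ₁, fun x => ⟨fun hx => ?_, ?_⟩, fun y => ⟨fun hy => ?_, ?_⟩,
    fun x => ⟨fun hx => ?_, ?_⟩, fun y => ⟨fun hy => ?_, ?_⟩, ?_, ?_, ?_, ?_⟩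
  · obtain ⟨b, z, h1, h2, h3⟩ := (hδ₀ x 0).mpr hx
    obtain ⟨v, hv⟩ := (S.q₁_eq_zero z).mp h3
    obtain ⟨w, hw⟩ := W.exists_i₀ (b - p₀ v) (by rw [map_sub, hp₀, hv, h2, sub_self])
    exact ⟨w, R.i₀_inj (by rw [hQ₀, hw, map_sub, rp₀, sub_zero, h1])⟩
  · rintro ⟨w, rfl⟩
    exact (hδ₀ _ 0).mp ⟨W.i₀ w, 0, (hQ₀ w).symm, by rw [map_zero, map_zero, W.d_i₀], map_zero _⟩
  · obtain ⟨z, rfl⟩ := S.q₁_surj y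
    obtain ⟨t, ht, hP⟩ := hP₁ z
    obtain ⟨b, hb⟩ := (W.q₁_eq_zero t).mp (hP.symm.trans hy)
    obtain ⟨x, hx⟩ := R.exists_i₀ (r₀ b) (by rw [hr₀, hb, ht, rp₁])
    exact ⟨x, (hδ₀ _ _).mp ⟨b, z, hx.symm, by rw [hb, ht], rfl⟩⟩
  · rintro ⟨x, rfl⟩
    obtain ⟨b, z, -, h2, h3⟩ := (hδ₀ x (δ₀ x)).mpr rfl
    obtain ⟨t, ht, hP⟩ := hP₁ z
    rw [← h3, hP, W.q₁_eq_zero]
    exact ⟨b, by rw [ht, h2]⟩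
  · obtain ⟨b, z, s, h0, h1, h2, h3⟩ := (hδ₁ x 0).mpr hx
    obtain ⟨u, hu⟩ := (S.q₂_eq_zero s).mp h3
    obtain ⟨w, hw⟩ := W.exists_iZ (b - p₁ u) (by rw [map_sub, hp₁, hu, h2, sub_self])
    obtain ⟨z', hz', hQ⟩ := hQ₁ w
    refine ⟨W.q₁ w, ?_⟩
    rw [hQ, ← h0]
    congr 1
    exact R.iZ_inj (by rw [hz', hw, map_sub, rp₁, sub_zero, h1])
  · rintro ⟨x', rfl⟩
    obtain ⟨w, rfl⟩ := W.q₁_surj x'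
    obtain ⟨z', hz', hQ⟩ := hQ₁ w
    exact (hδ₁ _ 0).mp ⟨W.iZ w, z', 0, hQ.symm, hz'.symm, by rw [map_zero, W.d_iZ], map_zero _⟩
  · obtain ⟨s, rfl⟩ := S.q₂_surj y
    obtain ⟨b, hb⟩ := (W.q₂_eq_zero _).mp ((hP₂ s).symm.trans hy)
    obtain ⟨z, hz⟩ := R.exists_iZ (r₁ b) (by rw [hr₁, hb, rp₂])
    exact ⟨R.q₁ z, (hδ₁ _ _).mp ⟨b, z, s, rfl, hz.symm, hb.symm, rfl⟩⟩
  · rintro ⟨x, rfl⟩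
    obtain ⟨b, z, s, -, -, h2, h3⟩ := (hδ₁ x (δ₁ x)).mpr rfl
    rw [← h3, hP₂, W.q₂_eq_zero]
    exact ⟨b, h2.symm⟩
  · intro x
    obtain ⟨b, z, h1, h2, h3⟩ := (hδ₀ x (δ₀ x)).mpr rfl
    exact ⟨b, z, h1, h2, h3.symm⟩
  · exact fun x b z h1 h2 => (hδ₀ x _).mp ⟨b, z, h1, h2, rfl⟩
  · intro x
    obtain ⟨b, z, s, h0, h1, h2, h3⟩ := (hδ₁ x (δ₁ x)).mpr rfl
    exact ⟨b, z, s, h0, h1, h2, h3.symm⟩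
  · exact fun b z s h1 h2 => (hδ₁ _ _).mp ⟨b, z, s, rfl, h1, h2, rfl⟩

/-- The sequence: the rows are short exact in degrees 0 and 1 and left exact in degree 2. -/
theorem exact_sequence (S : Data S₀ S₁ S₂ ZS AS₀ AS₁ AS₂) (W : Data W₀ W₁ W₂ ZW AW₀ AW₁ AW₂)
    (R : Data R₀ R₁ R₂ ZR AR₀ AR₁ AR₂)
    (p₀ : S₀ →+ W₀) (p₁ : S₁ →+ W₁) (p₂ : S₂ →+ W₂) (r₀ : W₀ →+ R₀) (r₁ : W₁ →+ R₁) (r₂ : W₂ →+ R₂)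
    (hp₀ : ∀ x, W.d₀ (p₀ x) = p₁ (S.d₀ x)) (hp₁ : ∀ x, W.d₁ (p₁ x) = p₂ (S.d₁ x))
    (hr₀ : ∀ x, R.d₀ (r₀ x) = r₁ (W.d₀ x)) (hr₁ : ∀ x, R.d₁ (r₁ x) = r₂ (W.d₁ x))
    (ip₀ : Function.Injective p₀) (ip₁ : Function.Injective p₁) (ip₂ : Function.Injective p₂)
    (rp₀ : ∀ x, r₀ (p₀ x) = 0) (rp₁ : ∀ x, r₁ (p₁ x) = 0) (rp₂ : ∀ x, r₂ (p₂ x) = 0)
    (kr₀ : ∀ x, r₀ x = 0 → ∃ y, p₀ y = x) (kr₁ : ∀ x, r₁ x = 0 → ∃ y, p₁ y = x)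
    (kr₂ : ∀ x, r₂ x = 0 → ∃ y, p₂ y = x)
    (sr₀ : Function.Surjective r₀) (sr₁ : Function.Surjective r₁)
    (P₀ : AS₀ →+ AW₀) (P₁ : AS₁ →+ AW₁) (P₂ : AS₂ →+ AW₂) (Q₀ : AW₀ →+ AR₀) (Q₁ : AW₁ →+ AR₁) (Q₂ : AW₂ →+ AR₂)
    (hP₀ : ∀ x, W.i₀ (P₀ x) = p₀ (S.i₀ x)) (hQ₀ : ∀ x, R.i₀ (Q₀ x) = r₀ (W.i₀ x))
    (hP₁ : ∀ z, ∃ z', W.iZ z' = p₁ (S.iZ z) ∧ P₁ (S.q₁ z) = W.q₁ z')
    (hQ₁ : ∀ z, ∃ z', R.iZ z' = r₁ (W.iZ z) ∧ Q₁ (W.q₁ z) = R.q₁ z')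
    (hP₂ : ∀ x, P₂ (S.q₂ x) = W.q₂ (p₂ x)) (hQ₂ : ∀ x, Q₂ (W.q₂ x) = R.q₂ (r₂ x)) :
    Function.Injective P₀ ∧ Function.Exact P₀ Q₀ ∧ Function.Exact P₁ Q₁ ∧ Function.Exact P₂ Q₂ ∧
    ∃ (δ₀ : AR₀ →+ AS₁) (δ₁ : AR₁ →+ AS₂),
      Function.Exact Q₀ δ₀ ∧ Function.Exact δ₀ P₁ ∧ Function.Exact Q₁ δ₁ ∧ Function.Exact δ₁ P₂ := by
  obtain ⟨h1, h2, h3, h4, δ₀, δ₁, h5, h6, h7, h8, -⟩ := exact_sequence' S W R p₀ p₁ p₂ r₀ r₁ r₂ hp₀ hp₁ hr₀ hr₁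
    ip₀ ip₁ ip₂ rp₀ rp₁ rp₂ kr₀ kr₁ kr₂ sr₀ sr₁ P₀ P₁ P₂ Q₀ Q₁ Q₂ hP₀ hQ₀ hP₁ hQ₁ hP₂ hQ₂
  exact ⟨h1, h2, h3, h4, δ₀, δ₁, h5, h6, h7, h8⟩

end CotTLib.Snake
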