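import Groth.Agent.CotTLib.Comp
import Groth.Agent.CotTLib.Snake

/-!
# The nine-term sequence of a composite presentation
-/

noncomputable section

open TensorProduct

namespace CotTLib

variable {A B C ι σ κ τ : Type*}
variable [CommRing A] [CommRing B] [CommRing C] [Algebra A B] [Algebra B C] [Algebra A C] [IsScalarTower A B C]
variable (Q : Algebra.Presentation B C κ τ) (P : Algebra.Presentation A B ι σ)
variable {M : Type*} [AddCommGroup M] [Module C M] [Module B M] [IsScalarTower B C M]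

/-! ### Degree 0 -/

lemma incl_L0map_X (i : ι) :
    (inclH Q P).L0map (dR P (MvPolynomial.X i)) = dR (Q.comp P) (MvPolynomial.X (Sum.inr i)) := by
  rw [L0map_dR, inclH_ringHom_X]

lemma proj_L0map_inl (i : κ) :
    (projH Q P).L0map (dR (Q.comp P) (MvPolynomial.X (Sum.inl i))) = dR Q (MvPolynomial.X i) := by
  rw [L0map_dR, projH_ringHom_X_inl]

lemma proj_L0map_inr (i : ι) :
    (projH Q P).L0map (dR (Q.comp P) (MvPolynomial.X (Sum.inr i))) = 0 := by
  rw [L0map_dR, projH_ringHom_X_inr, dR_algebraMap]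

lemma pull0_incl_proj (u : CotT.L0 Q →ₗ[C] M) : (inclH Q P).pull0 M ((projH Q P).pull0 M u) = 0 := by
  refine L0_ext fun i => ?_
  simp only [CotT.PresHom.pull0_apply, incl_L0map_X, proj_L0map_inr, map_zero, LinearMap.zero_apply]

lemma pull0_proj_injective : Function.Injective ((projH Q P).pull0 M) := by
  intro u u' h
  refine L0_ext fun i => ?_
  have := LinearMap.congr_fun h (dR (Q.comp P) (MvPolynomial.X (Sum.inl i)))
  simpa only [CotT.PresHom.pull0_apply, proj_L0map_inl] using this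

lemma exists_ext0 (ψ : CotT.L0 P →ₗ[B] M) :
    ∃ ψ' : CotT.L0 (Q.comp P) →ₗ[C] M, (inclH Q P).pull0 M ψ' = ψ := by
  refine ⟨(Q.comp P).cotangentSpaceBasis.constr C (Sum.elim 0 fun i => ψ (dR P (MvPolynomial.X i))),
    L0_ext fun i => ?_⟩
  rw [CotT.PresHom.pull0_apply, incl_L0map_X, ← cotangentSpaceBasis_eq_dR]
  exact Module.Basis.constr_basis _ _ _ _

lemma exists_desc0 (ψ : CotT.L0 (Q.comp P) →ₗ[C] M) (h : (inclH Q P).pull0 M ψ = 0) :
    ∃ u : CotT.L0 Q →ₗ[C] M, (projH Q P).pull0 M u = ψ := by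
  refine ⟨Q.cotangentSpaceBasis.constr C fun i => ψ (dR (Q.comp P) (MvPolynomial.X (Sum.inl i))),
    L0_ext fun i => ?_⟩
  rcases i with i | i
  · rw [CotT.PresHom.pull0_apply, proj_L0map_inl, ← cotangentSpaceBasis_eq_dR]
    exact Module.Basis.constr_basis _ _ _ _
  · rw [CotT.PresHom.pull0_apply, proj_L0map_inr, map_zero, ← incl_L0map_X]
    exact (LinearMap.congr_fun h _).symm

/-! ### Degree 1 -/

lemma incl_L1map_basis (s : σ) :
    (inclH Q P).L1map (CotT.L1basis P s) = CotT.L1basis (Q.comp P) (Sum.inr s) := by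
  rw [CotT.L1basis_apply, CotT.L1basis_apply, ← mk1_apply, ← mk1_apply, L1map_mk1, inclH_relModMap_single,
    map_one]

lemma proj_L1map_inl (s : τ) :
    (projH Q P).L1map (CotT.L1basis (Q.comp P) (Sum.inl s)) = CotT.L1basis Q s := by
  rw [CotT.L1basis_apply, CotT.L1basis_apply, ← mk1_apply, ← mk1_apply, L1map_mk1, projH_relModMap_inl,
    map_one]

lemma proj_L1map_inr (s : σ) :
    (projH Q P).L1map (CotT.L1basis (Q.comp P) (Sum.inr s)) = 0 := by
  rw [CotT.L1basis_apply, ← mk1_apply, L1map_mk1, projH_relModMap_inr, map_zero]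

lemma pull1_incl_proj (u : CotT.L1 Q →ₗ[C] M) : (inclH Q P).pull1 M ((projH Q P).pull1 M u) = 0 := by
  refine (CotT.L1basis P).ext fun s => ?_
  simp only [CotT.PresHom.pull1_apply, incl_L1map_basis, proj_L1map_inr, map_zero, LinearMap.zero_apply]

lemma pull1_proj_injective : Function.Injective ((projH Q P).pull1 M) := by
  intro u u' h
  refine (CotT.L1basis Q).ext fun s => ?_
  have := LinearMap.congr_fun h (CotT.L1basis (Q.comp P) (Sum.inl s))
  simpa only [CotT.PresHom.pull1_apply, proj_L1map_inl] using this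

lemma exists_ext1 (φ : CotT.L1 P →ₗ[B] M) :
    ∃ φ' : CotT.L1 (Q.comp P) →ₗ[C] M, (inclH Q P).pull1 M φ' = φ := by
  refine ⟨(CotT.L1basis (Q.comp P)).constr C (Sum.elim 0 fun s => φ (CotT.L1basis P s)),
    (CotT.L1basis P).ext fun s => ?_⟩
  rw [CotT.PresHom.pull1_apply, incl_L1map_basis]
  exact Module.Basis.constr_basis _ _ _ _

lemma exists_desc1 (φ : CotT.L1 (Q.comp P) →ₗ[C] M) (h : (inclH Q P).pull1 M φ = 0) :
    ∃ u : CotT.L1 Q →ₗ[C] M, (projH Q P).pull1 M u = φ := by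
  refine ⟨(CotT.L1basis Q).constr C fun s => φ (CotT.L1basis (Q.comp P) (Sum.inl s)),
    (CotT.L1basis (Q.comp P)).ext fun s => ?_⟩
  rcases s with s | s
  · rw [CotT.PresHom.pull1_apply, proj_L1map_inl]
    exact Module.Basis.constr_basis _ _ _ _
  · rw [CotT.PresHom.pull1_apply, proj_L1map_inr, map_zero, ← incl_L1map_basis]
    exact (LinearMap.congr_fun h _).symm

/-! ### Degree 2 -/

lemma pull2_incl_proj (u : CotT.L2 Q →ₗ[C] M) : (inclH Q P).pull2 M ((projH Q P).pull2 M u) = 0 := by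
  refine L2_ext fun q => ?_
  rw [CotT.PresHom.pull2_apply, CotT.PresHom.pull2_apply, L2map_mk2, L2map_mk2]
  have : (projH Q P).relKerMap ((inclH Q P).relKerMap q) = 0 :=
    Subtype.ext (projH_inclH_relModMap Q P q)
  simp only [this, map_zero, LinearMap.zero_apply]

lemma pull2_proj_injective : Function.Injective ((projH Q P).pull2 M) := by
  intro u u' h
  refine L2_ext fun q => ?_
  obtain ⟨z, rfl⟩ := projH_relKerMap_surjective Q P q
  have := LinearMap.congr_fun h (mk2 (Q.comp P) z)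
  simpa only [CotT.PresHom.pull2_apply, L2map_mk2] using this

lemma proj_mk2_smul (r : (Q.comp P).toExtension.Ring) (z : CotT.relKer (Q.comp P)) :
    mk2 Q ((projH Q P).relKerMap (r • z)) =
      algebraMap (Q.comp P).toExtension.Ring C r • mk2 Q ((projH Q P).relKerMap z) := by
  have h1 : (projH Q P).relKerMap (r • z) = (projH Q P).ringHom r • (projH Q P).relKerMap z :=
    (projH Q P).relKerMap.map_smulₛₗ r z
  refine (congrArg (mk2 Q) h1).trans ?_
  refine ((mk2 Q).map_smulₛₗ _ _).trans ?_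
  exact congrArg (· • mk2 Q ((projH Q P).relKerMap z))
    ((projH Q P).algebraMap_ringHom r)

lemma exists_desc2 (φ : CotT.L2 (Q.comp P) →ₗ[C] M) (h : (inclH Q P).pull2 M φ = 0) :
    ∃ u : CotT.L2 Q →ₗ[C] M, (projH Q P).pull2 M u = φ := by
  have hincl : ∀ q : CotT.relKer P, φ (mk2 (Q.comp P) ((inclH Q P).relKerMap q)) = 0 := fun q => by
    rw [← L2map_mk2]
    exact LinearMap.congr_fun h (mk2 P q)
  -- vanishing on the kernel
  have hker : ∀ z : CotT.relKer (Q.comp P), (projH Q P).relModMap z ∈ CotT.trivRel Q →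
      φ (mk2 (Q.comp P) z) = 0 := by
    intro z hz
    obtain ⟨t, ht, htz⟩ := exists_trivRel_lift Q P hz
    have hd : (projH Q P).relModMap ((z : CotT.relMod (Q.comp P)) - t) = 0 := by
      rw [map_sub, htz, sub_self]
    obtain ⟨y, hy, t', ht', hsum⟩ := Submodule.mem_sup.mp (mem_sup_of_projH_eq_zero Q P hd)
    have hyj : CotT.jmap (Q.comp P) y = 0 := by
      have h1 : y = (z : CotT.relMod (Q.comp P)) - t - t' := by rw [← hsum]; abel
      rw [h1, map_sub, map_sub, show CotT.jmap (Q.comp P) (z : CotT.relMod (Q.comp P)) = 0 from z.2,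
        jmap_trivRel (P' := Q.comp P) ht, jmap_trivRel (P' := Q.comp P) ht', sub_zero, sub_zero]
    have hspan : ∀ w ∈ Submodule.span (Q.comp P).toExtension.Ring
        ((inclH Q P).relModMap '' (CotT.relKer P : Set (CotT.relMod P))),
        ∃ hw : w ∈ CotT.relKer (Q.comp P), φ (mk2 (Q.comp P) ⟨w, hw⟩) = 0 := by
      intro w hw
      induction hw using Submodule.span_induction with
      | mem x hx =>
        obtain ⟨q, hq, rfl⟩ := hx
        exact ⟨((inclH Q P).relKerMap ⟨q, hq⟩).2, hincl ⟨q, hq⟩⟩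
      | zero => exact ⟨zero_mem _, by rw [show (⟨0, zero_mem _⟩ : CotT.relKer (Q.comp P)) = 0 from rfl, map_zero, map_zero]⟩
      | add a b _ _ ha hb =>
        obtain ⟨ha, ha'⟩ := ha
        obtain ⟨hb, hb'⟩ := hb
        refine ⟨add_mem ha hb, ?_⟩
        rw [show (⟨a + b, add_mem ha hb⟩ : CotT.relKer (Q.comp P)) = ⟨a, ha⟩ + ⟨b, hb⟩ from rfl,
          map_add, map_add, ha', hb', add_zero]
      | smul r a _ ha =>
        obtain ⟨ha, ha'⟩ := ha
        refine ⟨Submodule.smul_mem _ r ha, ?_⟩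
        rw [show (⟨r • a, Submodule.smul_mem _ r ha⟩ : CotT.relKer (Q.comp P)) = r • ⟨a, ha⟩ from rfl,
          LinearMap.map_smulₛₗ, map_smul, ha', smul_zero]
    obtain ⟨hy', hy''⟩ := hspan y (mem_span_incl_of_inr Q P hy hyj)
    rw [← hy'']
    refine congrArg φ (mk2_eq_of_sub_mem _ ?_)
    have h1 : (z : CotT.relMod (Q.comp P)) - y = t + t' := by
      rw [eq_sub_iff_add_eq.mpr hsum]; abel
    change (z : CotT.relMod (Q.comp P)) - y ∈ _
    rw [h1]
    exact add_mem ht ht'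
  have hadd : ∀ x : CotT.L2 Q, ∃ m : M, ∀ z : CotT.relKer (Q.comp P),
      mk2 Q ((projH Q P).relKerMap z) = x → φ (mk2 (Q.comp P) z) = m := by
    intro x
    obtain ⟨q, rfl⟩ := mk2_surjective Q x
    obtain ⟨z₀, rfl⟩ := projH_relKerMap_surjective Q P q
    refine ⟨φ (mk2 (Q.comp P) z₀), fun z hz => ?_⟩
    have h0 : mk2 Q ((projH Q P).relKerMap (z - z₀)) = 0 := by
      refine add_right_cancel (b := mk2 Q ((projH Q P).relKerMap z₀)) ?_
      rw [← map_add, ← map_add, zero_add, show z - z₀ + z₀ = z from sub_add_cancel z z₀, hz]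
    -- read off membership in the trivial relations
    have hmem : (projH Q P).relModMap ((z - z₀ : CotT.relKer (Q.comp P)) : CotT.relMod (Q.comp P))
        ∈ CotT.trivRel Q := mem_trivRel_of_mk2_eq_zero Q h0
    have := hker (z - z₀) hmem
    rw [← sub_eq_zero]
    refine Eq.trans ?_ this
    exact ((map_sub (φ.toAddMonoidHom.comp (mk2 (Q.comp P)).toAddMonoidHom) _ _)).symm
  choose f hf using hadd
  have hfq : ∀ z, f (mk2 Q ((projH Q P).relKerMap z)) = φ (mk2 (Q.comp P) z) :=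
    fun z => (hf _ z rfl).symm
  refine ⟨{ toFun := f, map_add' := ?_, map_smul' := ?_ }, L2_ext fun z => ?_⟩
  · intro x y
    obtain ⟨q, rfl⟩ := mk2_surjective Q x
    obtain ⟨q', rfl⟩ := mk2_surjective Q y
    obtain ⟨z, rfl⟩ := projH_relKerMap_surjective Q P q
    obtain ⟨z', rfl⟩ := projH_relKerMap_surjective Q P q'
    rw [← map_add, ← map_add, hfq, hfq, hfq, map_add, map_add]
  · intro c x
    obtain ⟨q, rfl⟩ := mk2_surjective Q x
    obtain ⟨z, rfl⟩ := projH_relKerMap_surjective Q P q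
    obtain ⟨r, rfl⟩ := surjective_algebraMap (Q.comp P) c
    rw [← proj_mk2_smul Q P r z, hfq, hfq]
    rewrite [mk2_smul]
    exact φ.map_smulₛₗ _ _
  · refine Eq.trans ?_ (hfq z)
    exact congrArg f (L2map_mk2 (projH Q P) z)

/-! ### The sequence -/

/-- The cochain complex of a presentation, with its cohomology. -/
def cochainData {A B ι σ : Type*} [CommRing A] [CommRing B] [Algebra A B]
    (P : Algebra.Presentation A B ι σ) (M : Type*) [AddCommGroup M] [Module B M] :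
    Snake.Data (CotT.L0 P →ₗ[B] M) (CotT.L1 P →ₗ[B] M) (CotT.L2 P →ₗ[B] M) (CotT.cocycles1 P M)
      (CotT.T0 P M) (CotT.T1 P M) (CotT.T2 P M) where
  d₀ := (CotT.d1Star P M).toAddMonoidHom
  d₁ := (CotT.d2Star P M).toAddMonoidHom
  dd x := LinearMap.congr_fun (CotT.d2Star_comp_d1Star P M) x
  i₀ := (LinearMap.ker (CotT.d1Star P M)).subtype.toAddMonoidHom
  i₀_inj := Subtype.val_injective
  d_i₀ x := x.2
  exists_i₀ x hx := ⟨⟨x, hx⟩, rfl⟩
  iZ := (CotT.cocycles1 P M).subtype.toAddMonoidHom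
  iZ_inj := Subtype.val_injective
  d_iZ z := z.2
  exists_iZ x hx := ⟨⟨x, hx⟩, rfl⟩
  q₁ := (CotT.coboundaries1 P M).mkQ.toAddMonoidHom
  q₁_surj := Submodule.mkQ_surjective _
  q₁_eq_zero z := (Submodule.Quotient.mk_eq_zero _).trans LinearMap.mem_range
  q₂ := (LinearMap.range (CotT.d2Star P M)).mkQ.toAddMonoidHom
  q₂_surj := Submodule.mkQ_surjective _
  q₂_eq_zero z := (Submodule.Quotient.mk_eq_zero _).trans LinearMap.mem_range

/-- The nine-term sequence of the composite presentation. -/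
theorem nine_term_comp :
    Function.Injective ((projH Q P).T0pull M) ∧
    Function.Exact ((projH Q P).T0pull M) ((inclH Q P).T0pull M) ∧
    Function.Exact ((projH Q P).T1pull M) ((inclH Q P).T1pull M) ∧
    Function.Exact ((projH Q P).T2pull M) ((inclH Q P).T2pull M) ∧
    ∃ (δ₀ : CotT.T0 P M →+ CotT.T1 Q M) (δ₁ : CotT.T1 P M →+ CotT.T2 Q M),
      Function.Exact ((inclH Q P).T0pull M) δ₀ ∧ Function.Exact δ₀ ((projH Q P).T1pull M) ∧
      Function.Exact ((inclH Q P).T1pull M) δ₁ ∧ Function.Exact δ₁ ((projH Q P).T2pull M) :=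
  Snake.exact_sequence (cochainData Q M) (cochainData (Q.comp P) M) (cochainData P M)
    ((projH Q P).pull0 M).toAddMonoidHom ((projH Q P).pull1 M).toAddMonoidHom ((projH Q P).pull2 M).toAddMonoidHom
    ((inclH Q P).pull0 M).toAddMonoidHom ((inclH Q P).pull1 M).toAddMonoidHom ((inclH Q P).pull2 M).toAddMonoidHom
    (fun x => ((projH Q P).pull1_d1Star M x).symm) (fun x => ((projH Q P).pull2_d2Star M x).symm)
    (fun x => ((inclH Q P).pull1_d1Star M x).symm) (fun x => ((inclH Q P).pull2_d2Star M x).symm)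
    (pull0_proj_injective Q P) (pull1_proj_injective Q P) (pull2_proj_injective Q P)
    (pull0_incl_proj Q P) (pull1_incl_proj Q P) (pull2_incl_proj Q P)
    (exists_desc0 Q P) (exists_desc1 Q P) (exists_desc2 Q P)
    (exists_ext0 Q P) (exists_ext1 Q P)
    ((projH Q P).T0pull M).toAddMonoidHom ((projH Q P).T1pull M).toAddMonoidHom ((projH Q P).T2pull M).toAddMonoidHom
    ((inclH Q P).T0pull M).toAddMonoidHom ((inclH Q P).T1pull M).toAddMonoidHom ((inclH Q P).T2pull M).toAddMonoidHom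
    (fun _ => rfl) (fun _ => rfl)
    (fun z => ⟨(projH Q P).cocycles1Pull M z, rfl, rfl⟩) (fun z => ⟨(inclH Q P).cocycles1Pull M z, rfl, rfl⟩)
    (fun _ => rfl) (fun _ => rfl)

lemma exact_of_iso {X Y Y' Z : Type*} [Zero Z] (p : X → Y) (i : Y → Z) (r : Y → Y') (s : Y' → Y)
    (a : X → Y') (b : Y' → Z) (he : Function.Exact p i) (ha : ∀ x, a x = r (p x)) (hb : ∀ y, b y = i (s y))
    (hsr : ∀ y, s (r y) = y) (hrs : ∀ y, r (s y) = y) : Function.Exact a b := by
  intro y
  rw [hb, he (s y)]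
  exact ⟨fun ⟨x, hx⟩ => ⟨x, by rw [ha, hx, hrs]⟩, fun ⟨x, hx⟩ => ⟨x, by rw [← hx, ha, hsr]⟩⟩

lemma exact_left_of_iso {Y Y' Z W : Type*} [Zero W] (i : Y → Z) (r : Y → Y') (s : Y' → Y) (b : Y' → Z)
    (d : Z → W) (he : Function.Exact i d) (hb : ∀ y, b y = i (s y)) (hsr : ∀ y, s (r y) = y) :
    Function.Exact b d := by
  intro x
  rw [he x]
  exact ⟨fun ⟨y, hy⟩ => ⟨r y, by rw [hb, hsr, hy]⟩, fun ⟨y, hy⟩ => ⟨s y, by rw [← hy, hb]⟩⟩

lemma exact_right_of_iso {X Y Z Z' : Type*} [Zero Z] [Zero Z'] (d : X → Y) (p : Y → Z) (r : Z → Z')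
    (a : Y → Z') (he : Function.Exact d p) (ha : ∀ y, a y = r (p y)) (hr : Function.Injective r)
    (hr0 : r 0 = 0) : Function.Exact d a := by
  intro y
  rw [ha, ← he y]
  exact ⟨fun h => hr (h.trans hr0.symm), fun h => by rw [h, hr0]⟩

/-- The nine-term sequence for any presentations and any morphisms between them. -/
theorem nine_term {ι' σ' : Type*} (W : Algebra.Presentation A C ι' σ')
    (a : CotT.PresHom W Q) (b : CotT.PresHom P W) :
    Function.Injective (a.T0pull M) ∧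
    Function.Exact (a.T0pull M) (b.T0pull M) ∧
    Function.Exact (a.T1pull M) (b.T1pull M) ∧
    Function.Exact (a.T2pull M) (b.T2pull M) ∧
    ∃ (δ₀ : CotT.T0 P M →+ CotT.T1 Q M) (δ₁ : CotT.T1 P M →+ CotT.T2 Q M),
      Function.Exact (b.T0pull M) δ₀ ∧ Function.Exact δ₀ (a.T1pull M) ∧
      Function.Exact (b.T1pull M) δ₁ ∧ Function.Exact δ₁ (a.T2pull M) := by
  let ρ : CotT.PresHom W (Q.comp P) := presHom W (Q.comp P)
  let σ₀ : CotT.PresHom (Q.comp P) W := presHom (Q.comp P) W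
  have a0 : ∀ x, a.T0pull M x = ρ.T0pull M ((projH Q P).T0pull M x) := fun x =>
    (LinearMap.congr_fun (T0pull_eq a (presHomComp (projH Q P) ρ)) x).trans (T0pull_comp _ _ x)
  have a1 : ∀ x, a.T1pull M x = ρ.T1pull M ((projH Q P).T1pull M x) := fun x =>
    (LinearMap.congr_fun (T1pull_eq a (presHomComp (projH Q P) ρ)) x).trans (T1pull_comp _ _ x)
  have a2 : ∀ x, a.T2pull M x = ρ.T2pull M ((projH Q P).T2pull M x) := fun x =>
    (LinearMap.congr_fun (T2pull_eq a (presHomComp (projH Q P) ρ)) x).trans (T2pull_comp _ _ x)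
  have b0 : ∀ x, b.T0pull M x = (inclH Q P).T0pull M (σ₀.T0pull M x) := fun x =>
    (LinearMap.congr_fun (T0pull_eq b (presHomComp σ₀ (inclH Q P))) x).trans (T0pull_comp _ _ x)
  have b1 : ∀ x, b.T1pull M x = (inclH Q P).T1pull M (σ₀.T1pull M x) := fun x =>
    (LinearMap.congr_fun (T1pull_eq b (presHomComp σ₀ (inclH Q P))) x).trans (T1pull_comp _ _ x)
  have b2 : ∀ x, b.T2pull M x = (inclH Q P).T2pull M (σ₀.T2pull M x) := fun x =>
    (LinearMap.congr_fun (T2pull_eq b (presHomComp σ₀ (inclH Q P))) x).trans (T2pull_comp _ _ x)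
  obtain ⟨hinj, he0, he1, he2, δ₀, δ₁, hd0, hd0', hd1, hd1'⟩ := nine_term_comp Q P (M := M)
  refine ⟨?_, ?_, ?_, ?_, δ₀, δ₁, ?_, ?_, ?_, ?_⟩
  · intro x y h
    rw [a0, a0] at h
    exact hinj (Function.LeftInverse.injective (T0pull_inv σ₀ ρ) h)
  · exact exact_of_iso _ _ _ _ _ _ he0 a0 b0 (T0pull_inv σ₀ ρ) (T0pull_inv ρ σ₀)
  · exact exact_of_iso _ _ _ _ _ _ he1 a1 b1 (T1pull_inv σ₀ ρ) (T1pull_inv ρ σ₀)
  · exact exact_of_iso _ _ _ _ _ _ he2 a2 b2 (T2pull_inv σ₀ ρ) (T2pull_inv ρ σ₀)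
  · exact exact_left_of_iso _ _ _ _ _ hd0 b0 (T0pull_inv σ₀ ρ)
  · exact exact_right_of_iso _ _ _ _ hd0' a1 (Function.LeftInverse.injective (T1pull_inv σ₀ ρ)) (map_zero _)
  · exact exact_left_of_iso _ _ _ _ _ hd1 b1 (T1pull_inv σ₀ ρ)
  · exact exact_right_of_iso _ _ _ _ hd1' a2 (Function.LeftInverse.injective (T2pull_inv σ₀ ρ)) (map_zero _)

end CotTLib

end
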