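import Groth.Agent.CotTLib.LongExact
import Groth.Agent.CotTLib.Syzygy

/-!
# `T²` of a quotient: presentations without variables
-/

noncomputable section

open TensorProduct

namespace CotTLib

variable {A B ι σ : Type*} [CommRing A] [CommRing B] [Algebra A B]

lemma trivRel_eq_triv (P : Algebra.Presentation A B ι σ) : CotT.trivRel P = triv (CotT.rel P) := rfl

lemma subsingleton_L2_of_relKer_le (P : Algebra.Presentation A B ι σ) (h : CotT.relKer P ≤ CotT.trivRel P) :
    Subsingleton (CotT.L2 P) := by
  refine subsingleton_of_forall_eq 0 fun z => ?_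
  obtain ⟨q, rfl⟩ := mk2_surjective P z
  exact mk2_eq_zero_of_mem_trivRel P (h q.2)

lemma subsingleton_T2_of_subsingleton_L2 (P : Algebra.Presentation A B ι σ) [Subsingleton (CotT.L2 P)]
    (M : Type*) [AddCommGroup M] [Module B M] : Subsingleton (CotT.T2 P M) := by
  refine subsingleton_of_forall_eq 0 fun x => ?_
  obtain ⟨φ, rfl⟩ := Submodule.Quotient.mk_surjective _ x
  rw [show φ = 0 from LinearMap.ext fun z => by rw [Subsingleton.elim z 0, map_zero, map_zero]]
  exact Submodule.Quotient.mk_zero _

/-- The presentation of a quotient by chosen generators of the ideal, with no variables. -/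
def quotPresentation (hs : Function.Surjective (algebraMap A B)) {σ : Type*} (fs : σ → A)
    (hI : RingHom.ker (algebraMap A B) = Ideal.span (Set.range fs)) :
    Algebra.Presentation A B PEmpty.{1} σ where
  toGenerators := Algebra.Generators.ofSurjectiveAlgebraMap hs
  relation := fun s => MvPolynomial.C (fs s)
  span_range_relation_eq_ker := by
    rw [show (Set.range fun s => (MvPolynomial.C (fs s) : MvPolynomial PEmpty.{1} A))
        = MvPolynomial.C '' Set.range fs from (Set.range_comp _ _), ← Ideal.map_span, ← hI]
    ext p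
    obtain ⟨a, rfl⟩ := MvPolynomial.C_surjective PEmpty.{1} p
    rw [Algebra.Generators.ker_eq_ker_aeval_val, RingHom.mem_ker]
    have h1 : ∀ I : Ideal A, (MvPolynomial.C a : MvPolynomial PEmpty.{1} A) ∈ I.map MvPolynomial.C ↔ a ∈ I := by
      intro I
      refine ⟨fun h => ?_, Ideal.mem_map_of_mem _⟩
      obtain ⟨b, hb, hba⟩ :=
        (Ideal.mem_map_iff_of_surjective _ (MvPolynomial.C_surjective PEmpty.{1})).mp h
      rwa [MvPolynomial.C_injective _ _ hba] at hb
    rw [h1]
    simp

lemma relKer_le_trivRel_quot (hs : Function.Surjective (algebraMap A B)) {n : ℕ} (fs : Fin n → A)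
    (hI : RingHom.ker (algebraMap A B) = Ideal.span (Set.range fs))
    (h : ∀ x, Finsupp.linearCombination A fs x = 0 → x ∈ triv fs) :
    CotT.relKer (quotPresentation hs fs hI) ≤ CotT.trivRel (quotPresentation hs fs hI) := by
  intro q hq
  let e : MvPolynomial PEmpty.{1} A →+* A := (MvPolynomial.isEmptyRingEquiv A PEmpty.{1}).toRingHom
  have heC : ∀ a, e (MvPolynomial.C a) = a := fun a => by
    change (MvPolynomial.C a : MvPolynomial PEmpty.{1} A).coeff 0 = a
    exact (MvPolynomial.coeff_C _ _).trans (if_pos rfl)
  have hCe : ∀ p, MvPolynomial.C (e p) = p := fun p => by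
    obtain ⟨a, rfl⟩ := MvPolynomial.C_surjective PEmpty.{1} p
    rw [heC]
  obtain ⟨x, rfl⟩ : ∃ x : Fin n →₀ A,
      (x.mapRange (MvPolynomial.C : A →+* MvPolynomial PEmpty.{1} A) (map_zero _)
        : CotT.relMod (quotPresentation hs fs hI)) = q := by
    refine ⟨Finsupp.mapRange e (map_zero _) q, ?_⟩
    ext s : 1
    exact hCe _
  have hlc : ∀ y : Fin n →₀ A, CotT.jmap (quotPresentation hs fs hI)
      (y.mapRange (MvPolynomial.C : A →+* MvPolynomial PEmpty.{1} A) (map_zero _)) =
        MvPolynomial.C (Finsupp.linearCombination A fs y) := by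
    intro y
    induction y using Finsupp.induction_linear with
    | zero =>
      rw [Finsupp.mapRange_zero, map_zero (Finsupp.linearCombination A fs), map_zero MvPolynomial.C]
      exact map_zero _
    | add a b ha hb =>
      refine (congrArg (CotT.jmap (quotPresentation hs fs hI))
        (Finsupp.mapRange_add (map_add MvPolynomial.C) a b)).trans ?_
      refine (map_add (CotT.jmap (quotPresentation hs fs hI)) _ _).trans ?_
      rw [map_add (Finsupp.linearCombination A fs), map_add MvPolynomial.C]
      exact congrArg₂ (· + ·) ha hb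
    | single s c =>
      rw [Finsupp.mapRange_single, Finsupp.linearCombination_single, smul_eq_mul, map_mul]
      exact CotT.jmap_single _ s _
  have hx : x ∈ triv fs := h x (MvPolynomial.C_injective PEmpty.{1} A
    (((hlc x).symm.trans hq).trans (map_zero _).symm))
  clear hq
  induction hx using Submodule.span_induction with
  | mem y hy =>
    obtain ⟨a, b, rfl⟩ := hy
    refine Submodule.subset_span ⟨a.mapRange MvPolynomial.C (map_zero _), b.mapRange MvPolynomial.C (map_zero _), ?_⟩
    rw [hlc, hlc]
    ext s : 1
    change MvPolynomial.C (Finsupp.linearCombination A fs a • b s - Finsupp.linearCombination A fs b • a s) = _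
    rw [smul_eq_mul, smul_eq_mul, map_sub, map_mul, map_mul]
    rfl
  | zero => rw [Finsupp.mapRange_zero]; exact zero_mem _
  | add a b _ _ ha hb => erw [Finsupp.mapRange_add (map_add MvPolynomial.C) a b]; exact add_mem ha hb
  | smul c a _ ha =>
    have := Submodule.smul_mem (CotT.trivRel (quotPresentation hs fs hI)) (MvPolynomial.C c) ha
    convert this using 1
    ext s : 1
    exact map_mul MvPolynomial.C c (a s)

end CotTLib

end
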