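import Groth.Agent.CotTLib.LocalCI
import Groth.Agent.CAlgJac.Basic
import Mathlib.RingTheory.Localization.Integer
import Mathlib.RingTheory.Localization.AtPrime.Basic

/-!
# Syzygies of an ideal with regular quotient in a regular ring

If `R` is a ring, `I = (f)` and, at each prime `p ⊇ I`, `R_p` and its quotient by `I_p` are regular, then every
syzygy of `f` with coefficients in `I` is trivial.
-/

noncomputable section

universe u

open IsLocalRing

namespace CotTLib

/-- An ideal with regular quotient in a regular local ring is generated by a regular sequence. -/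
theorem exists_regular_generators {R : Type u} [CommRing R] [IsRegularLocalRing R] (I : Ideal R)
    (hI : I ≤ maximalIdeal R) (hreg : IsRegularLocalRing (R ⧸ I)) :
    ∃ (n : ℕ) (g : Fin n → R), Ideal.span (Set.range g) = I ∧
      RingTheory.Sequence.IsWeaklyRegular R (List.ofFn g) := by
  classical
  obtain ⟨d, hd⟩ := Groth.Agent.CAlgReg.exists_dim (R := R)
  obtain ⟨s, hcard, hspan⟩ := (IsNoetherian.noetherian I).exists_span_finset_card_eq_spanFinrank
  let fs : Fin s.card → R := fun i => (s.equivFin.symm i : R)
  have hr : Set.range fs = (s : Set R) := by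
    ext x
    exact ⟨fun ⟨i, hi⟩ => hi ▸ (s.equivFin.symm i).2, fun hx => ⟨s.equivFin ⟨x, hx⟩, by simp [fs]⟩⟩
  have hIfs : Ideal.span (Set.range fs) = I := by rw [hr]; exact hspan
  have hmem : ∀ i, fs i ∈ maximalIdeal R := fun i => hI (hIfs ▸ Ideal.subset_span ⟨i, rfl⟩)
  have hmin : (Ideal.span (Set.range fs)).spanFinrank = s.card := by rw [hIfs, hcard]
  have hsq := (Groth.Agent.CAlgJac.isRegularLocalRing_quotient_iff I hI).mp hreg
  -- the generators are independent modulo `m²`
  have hcoef : ∀ a : Fin s.card →₀ R, Finsupp.linearCombination R fs a ∈ maximalIdeal R ^ 2 →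
      ∀ i, a i ∈ maximalIdeal R := by
    intro a ha i
    have h1 : Finsupp.linearCombination R fs a ∈ maximalIdeal R * I := by
      refine hsq ⟨?_, ha⟩
      rw [← hIfs, Ideal.span, ← Finsupp.range_linearCombination]
      exact LinearMap.mem_range_self _ a
    rw [← smul_eq_mul, ← hIfs, Ideal.span, Submodule.mem_ideal_smul_span_iff_exists_sum] at h1
    obtain ⟨b, hb, hab⟩ := h1
    have h2 : Finsupp.linearCombination R fs (a - b) = 0 := by
      rw [map_sub, sub_eq_zero, Finsupp.linearCombination_apply R b]
      exact hab.symm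
    have h3 := syzygy_mem_maximalIdeal fs hmin _ h2 i
    rw [Finsupp.sub_apply] at h3
    have := add_mem h3 (hb i)
    rwa [sub_add_cancel] at this
  let gm : Fin s.card → maximalIdeal R := fun i => ⟨fs i, hmem i⟩
  have hinj : Function.Injective gm := by
    intro i j hij
    by_contra hne
    have h0 := hcoef (Finsupp.single i 1 - Finsupp.single j 1) (by
      rw [map_sub, Finsupp.linearCombination_single, Finsupp.linearCombination_single,
        show fs i = fs j from congrArg (fun z : maximalIdeal R => (z : R)) hij, sub_self]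
      exact zero_mem _) i
    rw [Finsupp.sub_apply, Finsupp.single_eq_same, Finsupp.single_eq_of_ne hne, sub_zero] at h0
    exact (maximalIdeal.isMaximal R).ne_top ((Ideal.eq_top_iff_one _).mpr h0)
  have hind : LinearIndependent (ResidueField R) ((maximalIdeal R).toCotangent ∘ gm) := by
    rw [Fintype.linearIndependent_iff]
    intro c hc i
    choose a ha using fun i => residue_surjective (c i)
    have h1 : (maximalIdeal R).toCotangent (∑ i, a i • gm i) = 0 := by
      rw [map_sum, ← hc]
      refine Finset.sum_congr rfl fun i _ => ?_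
      rw [map_smul, ← ha i]
      exact (IsScalarTower.algebraMap_smul (ResidueField R) (a i) _).symm
    rw [Ideal.toCotangent_eq_zero] at h1
    have h2 := hcoef (Finsupp.equivFunOnFinite.symm a) (by
      rw [Finsupp.linearCombination_apply, Finsupp.sum_fintype _ _ (by simp)]
      simpa [gm] using h1) i
    rw [← ha i, residue_eq_zero_iff]
    simpa using h2
  obtain ⟨t, ht, hc⟩ := Groth.Agent.CAlgReg.exists_extend (Finset.univ.image gm) (by
    rw [Finset.coe_image, Finset.coe_univ, Set.image_univ, linearIndepOn_range_iff hinj]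
    exact hind)
  rw [Groth.Agent.CAlgReg.spanFinrank_eq_of_dim hd] at hc
  have himg : ((↑) '' ((Finset.univ.image gm : Finset (maximalIdeal R)) : Set (maximalIdeal R))) = (s : Set R) := by
    rw [Finset.coe_image, Finset.coe_univ, Set.image_univ, ← Set.range_comp, ← hr]
    rfl
  rw [himg] at ht
  have hcs : (Finset.univ.image gm).card = s.card := by
    rw [Finset.card_image_of_injective _ hinj, Finset.card_univ, Fintype.card_fin]
  obtain ⟨-, hdim, hsum⟩ := Groth.Agent.CAlgReg.quotient_span hd s t ht (by omega)
  refine ⟨s.card, fs, hIfs, ?_⟩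
  have hlist : Ideal.ofList (List.ofFn fs) = I := by
    conv_rhs => rw [← hIfs]
    rw [Ideal.ofList]
    congr 1
    ext x
    simp [List.mem_ofFn]
  have hspan' : Ideal.span (s : Set R) = I := hspan
  refine isWeaklyRegular_of_dim _ ?_ ?_
  · rw [hlist]; exact fun h => (maximalIdeal.isMaximal R).ne_top (top_unique (h ▸ hI))
  · rw [hlist, ← hspan', hdim, hd, List.length_ofFn]
    exact_mod_cast hsum

/-- Conversion of syzygies between a ring and the presentation without variables. -/
lemma mem_triv_of_mem_trivRel_quot {A B : Type u} [CommRing A] [CommRing B] [Algebra A B]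
    (hs : Function.Surjective (algebraMap A B)) {n : ℕ} (fs : Fin n → A)
    (hI : RingHom.ker (algebraMap A B) = Ideal.span (Set.range fs))
    (e : (quotPresentation hs fs hI).toExtension.Ring →+* A) (he : ∀ s, e (CotT.rel (quotPresentation hs fs hI) s) = fs s)
    {y : CotT.relMod (quotPresentation hs fs hI)} (hy : y ∈ CotT.trivRel (quotPresentation hs fs hI)) :
    (y.mapRange e (map_zero _) : Fin n →₀ A) ∈ triv fs := by
  induction hy using Submodule.span_induction with
  | mem y hy =>
    obtain ⟨a, b, rfl⟩ := hy
    have hj : ∀ a : CotT.relMod (quotPresentation hs fs hI),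
        e (CotT.jmap (quotPresentation hs fs hI) a) = Finsupp.linearCombination A fs (a.mapRange e (map_zero _)) := by
      intro a
      induction a using Finsupp.induction_linear with
      | zero => simp
      | add a b ha hb =>
        rw [map_add, map_add, ha, hb, Finsupp.mapRange_add (map_add e), map_add]
      | single s c =>
        rw [CotT.jmap_single, Finsupp.mapRange_single, Finsupp.linearCombination_single, smul_eq_mul, map_mul, he]
    refine Submodule.subset_span ⟨a.mapRange e (map_zero _), b.mapRange e (map_zero _), ?_⟩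
    ext s
    simp [hj]
  | zero => rw [Finsupp.mapRange_zero]; exact zero_mem _
  | add a b _ _ ha hb => rw [Finsupp.mapRange_add (map_add e)]; exact add_mem ha hb
  | smul c a _ ha =>
    convert Submodule.smul_mem (triv fs) (e c) ha using 1
    ext s
    simp

/-- In a regular local ring, syzygies with coefficients in an ideal with regular quotient are trivial. -/
theorem mem_triv_of_coeff_mem {R : Type u} [CommRing R] [IsRegularLocalRing R] {n : ℕ} (f : Fin n → R)
    (hI : Ideal.span (Set.range f) ≤ maximalIdeal R)
    (hreg : IsRegularLocalRing (R ⧸ Ideal.span (Set.range f)))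
    (x : Fin n →₀ R) (hx : Finsupp.linearCombination R f x = 0)
    (hxI : ∀ i, x i ∈ Ideal.span (Set.range f)) : x ∈ triv f := by
  set I := Ideal.span (Set.range f) with hIdef
  have hs : Function.Surjective (algebraMap R (R ⧸ I)) := Ideal.Quotient.mk_surjective
  have hker : RingHom.ker (algebraMap R (R ⧸ I)) = I := Ideal.mk_ker
  obtain ⟨c, g, hg, hw⟩ := exists_regular_generators I hI hreg
  have hf' : RingHom.ker (algebraMap R (R ⧸ I)) = Ideal.span (Set.range f) := hker
  have hg' : RingHom.ker (algebraMap R (R ⧸ I)) = Ideal.span (Set.range g) := by rw [hker, hg]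
  set P := quotPresentation hs f hf' with hP
  haveI := subsingleton_L2_of_relKer_le (quotPresentation hs g hg')
    (relKer_le_trivRel_quot hs g hg' (mem_triv_of_isWeaklyRegular g hw))
  haveI := subsingleton_T2_of_subsingleton_L2 (quotPresentation hs g hg') (CotT.L2 P)
  have hT : Subsingleton (CotT.T2 P (CotT.L2 P)) :=
    (T2equiv P (quotPresentation hs g hg') (M := CotT.L2 P)).toEquiv.subsingleton
  obtain ⟨u, hu⟩ : ∃ u, CotT.d2Star P (CotT.L2 P) u = LinearMap.id :=
    LinearMap.mem_range.mp ((Submodule.Quotient.mk_eq_zero _).mp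
      (hT.elim (Submodule.Quotient.mk LinearMap.id) 0))
  let Cf : R →+* P.toExtension.Ring := (MvPolynomial.C : R →+* MvPolynomial PEmpty.{1} R)
  let e : P.toExtension.Ring →+* R :=
    ((MvPolynomial.isEmptyRingEquiv R PEmpty.{1}).toRingHom : MvPolynomial PEmpty.{1} R →+* R)
  have heC : ∀ a, e (Cf a) = a := fun a => (MvPolynomial.coeff_C _ _).trans (if_pos rfl)
  have hj : ∀ y : Fin n →₀ R, CotT.jmap P (y.mapRange Cf (map_zero _) : CotT.relMod P) =
      Cf (Finsupp.linearCombination R f y) := by
    intro y
    induction y using Finsupp.induction_linear with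
    | zero => simp
    | add a b ha hb => rw [Finsupp.mapRange_add (map_add Cf), map_add, map_add, map_add, ha, hb]
    | single s c =>
      rw [Finsupp.mapRange_single, CotT.jmap_single, Finsupp.linearCombination_single, smul_eq_mul, map_mul]
      rfl
  have hq : (x.mapRange Cf (map_zero _) : CotT.relMod P) ∈ CotT.relKer P := by
    change CotT.jmap P _ = 0
    rw [hj, hx, map_zero]
  have hmk1 : mk1 P (x.mapRange Cf (map_zero _)) = 0 := by
    rw [← Finsupp.sum_single (x.mapRange Cf (map_zero _) : CotT.relMod P), Finsupp.sum, map_sum]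
    refine Finset.sum_eq_zero fun s _ => ?_
    rw [mk1_single, Finsupp.mapRange_apply,
      show algebraMap P.toExtension.Ring (R ⧸ I) (Cf (x s)) = algebraMap R (R ⧸ I) (x s) from
        (IsScalarTower.algebraMap_apply R P.toExtension.Ring (R ⧸ I) (x s)).symm,
      show algebraMap R (R ⧸ I) (x s) = 0 from Ideal.Quotient.eq_zero_iff_mem.mpr (hxI s), zero_smul]
  have h2 : mk2 P ⟨_, hq⟩ = 0 := by
    have h3 : u (CotT.d2 P (mk2 P ⟨_, hq⟩)) = mk2 P ⟨_, hq⟩ := LinearMap.congr_fun hu _
    rw [← h3, d2_mk2]
    exact (congrArg u hmk1).trans (map_zero u)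
  have h4 := mem_triv_of_mem_trivRel_quot hs f hf' e (fun s => heC (f s)) (mem_trivRel_of_mk2_eq_zero P h2)
  convert h4
  ext s
  exact (heC (x s)).symm

/-- Descent of triviality from the localization at a prime. -/
lemma exists_smul_mem_triv {R : Type u} [CommRing R] {n : ℕ} (f : Fin n → R) (p : Ideal R) [p.IsPrime]
    (x : Fin n →₀ R)
    (h : (x.mapRange (algebraMap R (Localization.AtPrime p)) (map_zero _)) ∈
      triv (fun i => algebraMap R (Localization.AtPrime p) (f i))) :
    ∃ r ∉ p, r • x ∈ triv f := by
  classical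
  let φ := algebraMap R (Localization.AtPrime p)
  have hlc : ∀ a : Fin n →₀ R, φ (Finsupp.linearCombination R f a) =
      Finsupp.linearCombination (Localization.AtPrime p) (fun i => φ (f i)) (a.mapRange φ (map_zero _)) := by
    intro a
    induction a using Finsupp.induction_linear with
    | zero => simp
    | add a b ha hb => rw [map_add, map_add, ha, hb, Finsupp.mapRange_add (map_add φ), map_add]
    | single s c => simp
  have hsm : ∀ (r : R) (a : Fin n →₀ R), (r • a).mapRange φ (map_zero _) = φ r • a.mapRange φ (map_zero _) := by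
    intro r a
    ext i
    simp
  have hden : ∀ a : Fin n →₀ Localization.AtPrime p, ∃ r ∉ p, ∃ b : Fin n →₀ R,
      b.mapRange φ (map_zero _) = φ r • a := by
    intro a
    obtain ⟨⟨r, hr⟩, hb⟩ := IsLocalization.exist_integer_multiples_of_finite p.primeCompl (fun i => a i)
    choose b hb using hb
    refine ⟨r, hr, Finsupp.equivFunOnFinite.symm b, ?_⟩
    ext i
    rw [Finsupp.smul_apply, smul_eq_mul, Finsupp.mapRange_apply, Finsupp.coe_equivFunOnFinite_symm]
    exact (hb i).trans (Algebra.smul_def _ _)
  obtain ⟨r, hr, y, hy, hyx⟩ : ∃ r ∉ p, ∃ y ∈ triv f,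
      y.mapRange φ (map_zero _) = φ r • x.mapRange φ (map_zero _) := by
    generalize x.mapRange (algebraMap R (Localization.AtPrime p)) (map_zero _) = z at h
    induction h using Submodule.span_induction with
    | mem z hz =>
      obtain ⟨a, b, rfl⟩ := hz
      obtain ⟨r, hr, a', ha⟩ := hden a
      obtain ⟨t, ht, b', hb⟩ := hden b
      refine ⟨r * t, fun h => (‹p.IsPrime›.mem_or_mem h).elim hr ht,
        Finsupp.linearCombination R f a' • b' - Finsupp.linearCombination R f b' • a',
        Submodule.subset_span ⟨a', b', rfl⟩, ?_⟩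
      rw [Finsupp.mapRange_sub (map_sub φ), hsm, hsm, hlc, hlc, ha, hb, map_smul, map_smul, map_mul]
      simp only [smul_sub, smul_smul, smul_eq_mul]
      congr 2 <;> ring
    | zero => exact ⟨1, fun h => ‹p.IsPrime›.ne_top ((Ideal.eq_top_iff_one _).mpr h), 0, zero_mem _, by simp⟩
    | add a b _ _ ha hb =>
      obtain ⟨r, hr, y, hy, hya⟩ := ha
      obtain ⟨t, ht, z, hz, hzb⟩ := hb
      refine ⟨r * t, fun h => (‹p.IsPrime›.mem_or_mem h).elim hr ht, t • y + r • z,
        add_mem (Submodule.smul_mem _ _ hy) (Submodule.smul_mem _ _ hz), ?_⟩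
      rw [Finsupp.mapRange_add (map_add φ), hsm, hsm, hya, hzb, map_mul, smul_add, smul_smul, smul_smul,
        mul_comm (φ t) (φ r)]
    | smul c a _ ha =>
      obtain ⟨r, hr, y, hy, hya⟩ := ha
      obtain ⟨⟨c', t⟩, hc⟩ := IsLocalization.surj p.primeCompl c
      refine ⟨r * (t : R), fun h => (‹p.IsPrime›.mem_or_mem h).elim hr t.2, c' • y, Submodule.smul_mem _ _ hy, ?_⟩
      rw [hsm, hya, ← hc, map_mul, smul_smul, smul_smul]
      congr 1
      ring
  have hz : ∀ i, ∃ t ∈ p.primeCompl, t * (r * x i - y i) = 0 := by
    intro i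
    have h1 : φ (r * x i - y i) = φ 0 := by
      have := DFunLike.congr_fun hyx i
      rw [Finsupp.smul_apply, Finsupp.mapRange_apply, Finsupp.mapRange_apply, smul_eq_mul] at this
      rw [map_sub, map_mul, this, sub_self, map_zero]
    obtain ⟨⟨t, ht⟩, h2⟩ := (IsLocalization.eq_iff_exists p.primeCompl (Localization.AtPrime p)).mp h1
    exact ⟨t, ht, by simpa using h2⟩
  choose t ht htz using hz
  refine ⟨(∏ i, t i) * r, fun h => ?_, ?_⟩
  · rcases ‹p.IsPrime›.mem_or_mem h with h | h
    · obtain ⟨i, -, hi⟩ := Ideal.IsPrime.prod_mem_iff.mp h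
      exact ht i hi
    · exact hr h
  · have : ((∏ i, t i) * r) • x = (∏ i, t i) • y := by
      ext i
      obtain ⟨w, hw⟩ := Finset.dvd_prod_of_mem t (Finset.mem_univ i)
      rw [Finsupp.smul_apply, Finsupp.smul_apply, smul_eq_mul, smul_eq_mul, hw]
      linear_combination w * htz i
    rw [this]
    exact Submodule.smul_mem _ _ hy

/-- A syzygy with coefficients in the ideal is trivial when the ring and the quotient are regular along `I`. -/
theorem mem_triv_of_regular {R : Type u} [CommRing R] {n : ℕ} (f : Fin n → R)
    (hreg : ∀ (p : Ideal R) [p.IsPrime], Ideal.span (Set.range f) ≤ p →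
      IsRegularLocalRing (Localization.AtPrime p) ∧
      IsRegularLocalRing (Localization.AtPrime p ⧸ (Ideal.span (Set.range f)).map (algebraMap R (Localization.AtPrime p))))
    (x : Fin n →₀ R) (hx : Finsupp.linearCombination R f x = 0)
    (hxI : ∀ i, x i ∈ Ideal.span (Set.range f)) : x ∈ triv f := by
  let a : Ideal R := (triv f).comap (LinearMap.toSpanSingleton R (Fin n →₀ R) x)
  suffices ha : (1 : R) ∈ a by simpa [a] using ha
  by_contra hne
  obtain ⟨p, hp, hap⟩ := Ideal.exists_le_maximal a (fun h => hne (h ▸ Submodule.mem_top))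
  haveI := hp.isPrime
  have hIp : Ideal.span (Set.range f) ≤ p := by
    refine Ideal.span_le.mpr ?_
    rintro _ ⟨i, rfl⟩
    refine hap ?_
    change (LinearMap.toSpanSingleton R (Fin n →₀ R) x) (f i) ∈ triv f
    have h1 : Finsupp.linearCombination R f (Finsupp.single i 1) • x
        - Finsupp.linearCombination R f x • Finsupp.single i 1 ∈ triv f := Submodule.subset_span ⟨_, _, rfl⟩
    rwa [hx, zero_smul, sub_zero, Finsupp.linearCombination_single, one_smul] at h1
  obtain ⟨h1, h2⟩ := hreg p hIp
  haveI := h1
  let φ := algebraMap R (Localization.AtPrime p)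
  have hmap : (Ideal.span (Set.range f)).map φ = Ideal.span (Set.range fun i => φ (f i)) := by
    rw [Ideal.map_span, ← Set.range_comp]; rfl
  rw [hmap] at h2
  have hle : Ideal.span (Set.range fun i => φ (f i)) ≤ maximalIdeal (Localization.AtPrime p) := by
    rw [← hmap]
    exact (Ideal.map_mono hIp).trans (Localization.AtPrime.map_eq_maximalIdeal).le
  have h3 := mem_triv_of_coeff_mem (fun i => φ (f i)) hle h2 (x.mapRange φ (map_zero _)) (by
    have h0 := congrArg φ hx
    rw [map_zero] at h0
    rw [← h0, Finsupp.linearCombination_apply, Finsupp.linearCombination_apply, map_finsuppSum,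
      Finsupp.sum_mapRange_index (by simp)]
    simp only [smul_eq_mul, map_mul]) (fun i => by
    rw [Finsupp.mapRange_apply, ← hmap]
    exact Ideal.mem_map_of_mem _ (hxI i))
  obtain ⟨r, hr, hrx⟩ := exists_smul_mem_triv f p x h3
  exact hr (hap hrx)

end CotTLib

end
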