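import Groth.Agent.CotTLib.RegSyz2
import Groth.Agent.CAlgJac.Field

/-!
# `T¹` and formal smoothness, `T²` of a smooth algebra over a field
-/

noncomputable section

universe u

open TensorProduct

namespace CotTLib

section FormallySmooth

variable {A B : Type u} [CommRing A] [CommRing B] [Algebra A B] {ι σ : Type*}
variable (P : Algebra.Presentation A B ι σ)

instance formallySmooth_toExtensionRing : Algebra.FormallySmooth A P.toExtension.Ring :=
  inferInstanceAs (Algebra.FormallySmooth A (MvPolynomial ι A))

lemma subsingleton_T1_of_formallySmooth [Algebra.FormallySmooth A B]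
    (M : Type*) [AddCommGroup M] [Module B M] : Subsingleton (CotT.T1 P M) := by
  obtain ⟨l, hl⟩ := P.toExtension.formallySmooth_iff_split_injection.mp inferInstance
  refine subsingleton_of_forall_eq 0 fun x => ?_
  obtain ⟨φ, rfl⟩ := homToT1_surjective x
  have : φ ∈ LinearMap.ker (CotT.homToT1 P M) := by
    rw [ker_homToT1]
    exact ⟨φ ∘ₗ l, LinearMap.ext fun y => congrArg φ (LinearMap.congr_fun hl y)⟩
  exact this

lemma formallySmooth_of_subsingleton_T1 (h : Subsingleton (CotT.T1 P P.toExtension.Cotangent)) :
    Algebra.FormallySmooth A B := by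
  have h0 : (LinearMap.id : P.toExtension.Cotangent →ₗ[B] _) ∈ LinearMap.ker (CotT.homToT1 P _) :=
    h.elim _ _
  rw [ker_homToT1] at h0
  exact P.toExtension.formallySmooth_iff_split_injection.mpr h0

lemma mem_range_d2_of_toCot {z : CotT.L1 P} (hz : CotT.toCot P z = 0) : z ∈ LinearMap.range (CotT.d2 P) := by
  rw [← Submodule.Quotient.mk_eq_zero]
  refine cocycle_eq_zero_of_toCot (φ := (LinearMap.range (CotT.d2 P)).mkQ) ?_ hz
  exact LinearMap.ext fun w => (Submodule.Quotient.mk_eq_zero _).mpr (LinearMap.mem_range_self _ w)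

lemma mk1_coeff_eq_zero {f : CotT.relMod P} (hf : mk1 P f = 0) (s : σ) :
    algebraMap P.toExtension.Ring B (f s) = 0 := by
  have key : ∀ g : CotT.relMod P, (CotT.L1basis P).repr (mk1 P g) s = algebraMap P.toExtension.Ring B (g s) := by
    intro g
    induction g using Finsupp.induction_linear with
    | zero => simp
    | add a b ha hb => rw [map_add, map_add, Finsupp.add_apply, ha, hb, Finsupp.add_apply, map_add]
    | single t r =>
      rw [mk1_single, map_smul, Module.Basis.repr_self, Finsupp.smul_apply]
      by_cases h : t = s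
      · subst h; simp
      · simp [Finsupp.single_eq_of_ne (Ne.symm h)]
  rw [← key, hf, map_zero, Finsupp.zero_apply]

lemma T2mk_eq_zero' {M : Type*} [AddCommGroup M] [Module B M] (φ : CotT.L2 P →ₗ[B] M) :
    (Submodule.Quotient.mk φ : CotT.T2 P M) = 0 ↔ ∃ u, CotT.d2Star P M u = φ :=
  (Submodule.Quotient.mk_eq_zero _).trans LinearMap.mem_range

lemma subsingleton_T2_of_formallySmooth [Algebra.FormallySmooth A B]
    (hinj : Function.Injective (CotT.d2 P)) (M : Type*) [AddCommGroup M] [Module B M] :
    Subsingleton (CotT.T2 P M) := by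
  obtain ⟨l, hl⟩ := P.toExtension.formallySmooth_iff_split_injection.mp inferInstance
  haveI : Module.Free B P.toExtension.CotangentSpace := Module.Free.of_basis P.cotangentSpaceBasis
  haveI : Module.Projective B P.toExtension.Cotangent :=
    Module.Projective.of_split P.toExtension.cotangentComplex l hl
  obtain ⟨sec, hsec⟩ := Module.projective_lifting_property (CotT.toCot P) LinearMap.id toCot_surjective
  refine subsingleton_of_forall_eq 0 fun x => ?_
  obtain ⟨φ, rfl⟩ := Submodule.Quotient.mk_surjective _ x
  have hmem : ∀ z, z - sec (CotT.toCot P z) ∈ LinearMap.range (CotT.d2 P) := fun z =>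
    mem_range_d2_of_toCot P (by
      rw [map_sub, show CotT.toCot P (sec (CotT.toCot P z)) = CotT.toCot P z from LinearMap.congr_fun hsec _,
        sub_self])
  let e := LinearEquiv.ofInjective (CotT.d2 P) hinj
  let r : CotT.L1 P →ₗ[B] CotT.L2 P := e.symm.toLinearMap ∘ₗ
    LinearMap.codRestrict (LinearMap.range (CotT.d2 P)) (LinearMap.id - sec ∘ₗ CotT.toCot P) hmem
  refine (T2mk_eq_zero' P φ).mpr ⟨φ ∘ₗ r, ?_⟩
  refine LinearMap.ext fun w => congrArg φ ?_
  apply hinj
  change (CotT.d2 P) (e.symm ⟨CotT.d2 P w - sec (CotT.toCot P (CotT.d2 P w)), hmem _⟩) = CotT.d2 P w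
  have h0 : CotT.toCot P (CotT.d2 P w) = 0 := LinearMap.congr_fun (CotT.toCot_comp_d2 P) w
  refine (congrArg Subtype.val (e.apply_symm_apply ⟨_, hmem (CotT.d2 P w)⟩)).trans ?_
  change CotT.d2 P w - sec (CotT.toCot P (CotT.d2 P w)) = _
  rw [h0, map_zero, sub_zero]

end FormallySmooth

section Field

variable {k B : Type u} [Field k] [CommRing B] [Algebra k B]

/-- For a finite presentation of an algebra whose local rings are regular, `d₂` is injective. -/
lemma d2_injective_of_regular {n m : ℕ} (P : Algebra.Presentation k B (Fin n) (Fin m))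
    (hreg : ∀ (q : Ideal B) [q.IsPrime], IsRegularLocalRing (Localization.AtPrime q)) :
    Function.Injective (CotT.d2 P) := by
  rw [← LinearMap.ker_eq_bot, LinearMap.ker_eq_bot']
  intro z hz
  obtain ⟨q, rfl⟩ := mk2_surjective P z
  rw [d2_mk2] at hz
  refine mk2_eq_zero_of_mem_trivRel P ?_
  haveI : IsRegularRing P.toExtension.Ring := inferInstanceAs (IsRegularRing (MvPolynomial (Fin n) k))
  have hspan : Ideal.span (Set.range (CotT.rel P)) = RingHom.ker (algebraMap P.toExtension.Ring B) :=
    P.span_range_relation_eq_ker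
  refine mem_triv_of_regular (CotT.rel P) (fun p _ hp => ⟨IsRegularRing.isRegularLocalRing_localization p, ?_⟩)
    (q : CotT.relMod P) q.2 (fun i => by rw [hspan]; exact mk1_coeff_eq_zero P hz i)
  rw [hspan] at hp ⊢
  have hsurj := surjective_algebraMap P
  set φ := algebraMap P.toExtension.Ring B with hφ
  haveI : (p.map φ).IsPrime := Ideal.map_isPrime_of_surjective hsurj hp
  let e : (P.toExtension.Ring ⧸ RingHom.ker φ) ≃+* B := RingHom.quotientKerEquivOfSurjective hsurj
  haveI hloc : IsLocalization ((p.primeCompl).map φ) (Localization.AtPrime (p.map φ)) := by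
    have : (p.primeCompl).map φ = (p.map φ).primeCompl := by
      ext b
      constructor
      · rintro ⟨r, hr, rfl⟩ hmem
        have hmem' : r ∈ (p.map φ).comap φ := hmem
        rw [Ideal.comap_map_of_surjective _ hsurj, sup_eq_left.mpr (show Ideal.comap φ ⊥ ≤ p from hp)] at hmem'
        exact hr hmem'
      · intro hb
        obtain ⟨r, rfl⟩ := hsurj b
        exact ⟨r, fun hr => hb (Ideal.mem_map_of_mem φ hr), rfl⟩
    rw [this]
    infer_instance
  haveI hloc' : IsLocalization (Algebra.algebraMapSubmonoid (P.toExtension.Ring ⧸ RingHom.ker φ) p.primeCompl)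
      (Localization.AtPrime p ⧸ (RingHom.ker φ).map (algebraMap P.toExtension.Ring (Localization.AtPrime p))) :=
    inferInstance
  haveI := hreg (p.map φ)
  refine IsRegularLocalRing.of_ringEquiv (R := Localization.AtPrime (p.map φ))
    (IsLocalization.ringEquivOfRingEquiv (M := (p.primeCompl).map φ)
      (T := Algebra.algebraMapSubmonoid (P.toExtension.Ring ⧸ RingHom.ker φ) p.primeCompl)
      (Localization.AtPrime (p.map φ))
      (Localization.AtPrime p ⧸ (RingHom.ker φ).map (algebraMap P.toExtension.Ring (Localization.AtPrime p)))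
      e.symm ?_)
  ext y
  constructor
  · rintro ⟨_, ⟨r, hr, rfl⟩, rfl⟩
    exact ⟨r, hr, (e.symm_apply_eq.mpr rfl).symm⟩
  · rintro ⟨r, hr, rfl⟩
    exact ⟨φ r, ⟨r, hr, rfl⟩, e.symm_apply_eq.mpr rfl⟩

/-- `T²` of a formally smooth finite type algebra over a field with regular local rings vanishes. -/
theorem subsingleton_T2_canon_of_smooth [Algebra.FormallySmooth k B] [Algebra.FiniteType k B]
    (hreg : ∀ (q : Ideal B) [q.IsPrime], IsRegularLocalRing (Localization.AtPrime q))
    (M : Type u) [AddCommGroup M] [Module B M] : Subsingleton (CotT.T2 (CotT.canon k B) M) := by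
  haveI : Algebra.FinitePresentation k B := Algebra.FinitePresentation.of_finiteType.mp inferInstance
  let P := Algebra.Presentation.ofFinitePresentation k B
  haveI := subsingleton_T2_of_formallySmooth P (d2_injective_of_regular P hreg) M
  exact (T2equiv (CotT.canon k B) P (M := M)).toEquiv.subsingleton

/-- Over an algebraically closed (or perfect) field, formally smooth finite type means regular. -/
theorem formallySmooth_iff_regular [PerfectField k] [Algebra.FiniteType k B] :
    Algebra.FormallySmooth k B ↔ ∀ (p : Ideal B) [p.IsPrime], IsRegularLocalRing (Localization.AtPrime p) := by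
  haveI : Algebra.FinitePresentation k B := Algebra.FinitePresentation.of_finiteType.mp inferInstance
  rw [← Algebra.smoothLocus_eq_univ_iff, Set.eq_univ_iff_forall]
  have key : ∀ (p : Ideal B) [p.IsPrime],
      Algebra.FormallySmooth k (Localization.AtPrime p) ↔ IsRegularLocalRing (Localization.AtPrime p) := by
    intro p _
    haveI : Algebra.EssFiniteType B (Localization.AtPrime p) :=
      Algebra.EssFiniteType.of_isLocalization _ p.primeCompl
    haveI : Algebra.EssFiniteType k (Localization.AtPrime p) := Algebra.EssFiniteType.comp k B _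
    haveI : Algebra.EssFiniteType k (IsLocalRing.ResidueField (Localization.AtPrime p)) :=
      Algebra.EssFiniteType.comp k (Localization.AtPrime p) _
    exact Groth.Agent.CAlgJac.formallySmooth_iff_isRegularLocalRing_of_essFiniteType k _
  exact ⟨fun h p hp => (key p).mp (h ⟨p, hp⟩), fun h p => (key p.asIdeal).mpr (h p.asIdeal)⟩

end Field

end CotTLib

end
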